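import Cfsg.Agent.TwoRadical.Frame

/-!
The elementary abelian kernel over `SU₅(2)` has a complement: the stabiliser of a coherent system of lifts of
the elements of order three attached to vectors of norm one.
-/

set_option autoImplicit false
set_option linter.unusedSectionVars false
set_option linter.style.haveILetI false

namespace CfsgLib.TwoRad

open Matrix CfsgLib.Unitary

section
variable {G : Type*} [Group G] {Q : Type*} [Group Q] {π : G →* Q}

/-- Commutation with a lift of a fixed-point-free element permutes the kernel. -/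
theorem exists_shift [Finite G] (hE : ElemKer π) {x : G}
    (hfp : ∀ o ∈ π.ker, π x ∈ stab π o → o = 1) {c : G} (hc : c ∈ π.ker) :
    ∃ o ∈ π.ker, x * o * x⁻¹ * o = c := by
  let ψ : π.ker → π.ker := fun o =>
    ⟨x * o * x⁻¹ * o, mul_mem ((MonoidHom.normal_ker π).conj_mem _ o.2 x) o.2⟩
  have hinj : Function.Injective ψ := by
    rintro ⟨o, ho⟩ ⟨o', ho'⟩ e
    have e' : x * o * x⁻¹ * o = x * o' * x⁻¹ * o' := congrArg Subtype.val e
    have hx' : x * o' * x⁻¹ ∈ π.ker := (MonoidHom.normal_ker π).conj_mem o' ho' x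
    have e3 : x * (o' * o) * x⁻¹ = o' * o := by
      calc x * (o' * o) * x⁻¹ = (x * o' * x⁻¹) * (x * o * x⁻¹ * o) * o⁻¹ := by group
        _ = (x * o' * x⁻¹) * (x * o' * x⁻¹) * (o' * o⁻¹) := by rw [e']; group
        _ = o' * o := by rw [hE.1 _ hx', one_mul, inv_eq_of_mul_eq_one_right (hE.1 o ho)]
    have h1 : o' * o = 1 := hfp _ (mul_mem ho' ho) (mem_stab_of (mul_inv_eq_iff_eq_mul.1 e3))
    refine Subtype.ext ?_
    show o = o'
    calc o = o' * o' * o := by rw [hE.1 o' ho', one_mul]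
      _ = o' := by rw [mul_assoc, h1, mul_one]
  obtain ⟨⟨o, ho⟩, e⟩ := (Finite.injective_iff_surjective.1 hinj) ⟨c, hc⟩
  exact ⟨o, ho, congrArg Subtype.val e⟩

theorem exists_commuting_lift [Finite G] (hE : ElemKer π) (hsurj : Function.Surjective π) {x : G}
    (hfp : ∀ o ∈ π.ker, π x ∈ stab π o → o = 1) {q : Q} (hc : Commute (π x) q) :
    ∃ y, π y = q ∧ Commute x y := by
  obtain ⟨y, rfl⟩ := hsurj q
  have hk : x * y * x⁻¹ * y⁻¹ ∈ π.ker := by
    rw [MonoidHom.mem_ker, map_mul, map_mul, map_mul, map_inv, map_inv, hc.eq, mul_inv_cancel_right,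
      mul_inv_cancel]
  obtain ⟨o, ho, e⟩ := exists_shift hE hfp hk
  refine ⟨o * y, by rw [map_mul, MonoidHom.mem_ker.1 ho, one_mul], ?_⟩
  have hxo : x * o * x⁻¹ ∈ π.ker := (MonoidHom.normal_ker π).conj_mem o ho x
  show x * (o * y) = o * y * x
  refine mul_inv_eq_iff_eq_mul.1 ?_
  calc x * (o * y) * x⁻¹ = (x * o * x⁻¹) * (x * y * x⁻¹ * y⁻¹) * y := by group
    _ = (x * o * x⁻¹) * (x * o * x⁻¹) * o * y := by rw [← e]; group
    _ = o * y := by rw [hE.1 _ hxo, one_mul]

theorem lift_unique {x : G} (hfp : ∀ o ∈ π.ker, π x ∈ stab π o → o = 1) {y y' : G} (h : π y = π y')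
    (hy : Commute x y) (hy' : Commute x y') : y = y' :=
  inv_mul_eq_one.1 (hfp (y⁻¹ * y') (by rw [MonoidHom.mem_ker, map_mul, map_inv, h, inv_mul_cancel])
    (mem_stab_of (hy.inv_right.mul_right hy')))

theorem commute_lifts {x : G} (hfp : ∀ o ∈ π.ker, π x ∈ stab π o → o = 1) {y y' : G}
    (h : Commute (π y) (π y')) (hy : Commute x y) (hy' : Commute x y') : Commute y y' :=
  lift_unique hfp (show π (y * y') = π (y' * y) by rw [map_mul, map_mul, h.eq]) (hy.mul_right hy')
    (hy'.mul_right hy)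

end

variable {F : Type} [Field F] [Finite F] [CharP F 2] {hF : Nat.card F = 2 ^ 2}
  {G : Type*} [Group G] [Finite G] {D : Set G} {π : G →* Cfsg.SU 5 F 2}

local notation "V" => Fin 5 → F
local notation "hh" => Cfsg.hermForm 5 F 2

/-- A lift for each point, commuting at orthogonal points. -/
def Coherent (π : G →* Cfsg.SU 5 F 2) (ω : F) (L : V → G) : Prop :=
  (∀ w, hh w w = 1 → IsK ω (π (L w)) w) ∧
    ∀ w w', hh w w = 1 → hh w' w' = 1 → hh w w' = 0 → Commute (L w) (L w')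

theorem Coherent.conj {ω : F} (hF' : Nat.card F = 2 ^ 2) {L : V → G} (hL : Coherent π ω L) (g : G) :
    Coherent π ω fun w => g * L (suMat (π g)⁻¹ *ᵥ w) * g⁻¹ := by
  have hw : ∀ w : V, suMat (π g) *ᵥ (suMat (π g)⁻¹ *ᵥ w) = w := fun w => by
    rw [Matrix.mulVec_mulVec, ← suMat_mul, mul_inv_cancel, suMat_one, Matrix.one_mulVec]
  refine ⟨fun w h => ?_, fun w w' h h' hp => ?_⟩
  · have := IsK.conj hF' (hL.1 (suMat (π g)⁻¹ *ᵥ w) (by rw [su_preserves]; exact h)) (π g)
    rw [hw] at this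
    show IsK ω (π (g * _ * g⁻¹)) w
    rwa [map_mul, map_mul, map_inv]
  · exact (hL.2 _ _ (by rw [su_preserves]; exact h) (by rw [su_preserves]; exact h')
      (by rw [su_preserves]; exact hp)).map (MulAut.conj g).toMonoidHom

include hF in
theorem exists_perp_two {a : V} (c : V) (ha : hh a a = 1) : ∃ z, hh z z = 1 ∧ hh z a = 0 ∧ hh z c = 0 := by
  have h0 : hh (Pi.single 0 1) (Pi.single (0 : Fin 5) (1 : F)) = 1 := by rw [hh_single hF]; simp
  have h1 : hh (Pi.single 1 1) (Pi.single (1 : Fin 5) (1 : F)) = 1 := by rw [hh_single hF]; simp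
  obtain ⟨g, -, hg⟩ := conn_sphere hF (n := 5) (by norm_num) (by simp) one_ne_zero h0 ha
  set b := suMat g *ᵥ (Pi.single (1 : Fin 5) (1 : F))
  have hb : hh b b = 1 := by rw [su_preserves, h1]
  have hab : hh a b = 0 := by rw [← hg, su_preserves, hh_single hF]; simp
  obtain ⟨y, y1, y2, -, y3, -⟩ := exists_unit_perp hF ha hb hab (c := c) (d := 0) (Or.inl rfl)
  exact ⟨y, y1, y2, y3⟩

theorem exists_coherent {ω : F} (hF : Nat.card F = 2 ^ 2) (hE : ElemKer π) (hsurj : Function.Surjective π)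
    (hω0 : ω ≠ 0) (hω : ω ^ 2 = ω + 1)
    (hfp : ∀ w, hh w w = 1 → ∀ k, IsK ω k w → ∀ o ∈ π.ker, k ∈ stab π o → o = 1) :
    ∃ L : V → G, Coherent π ω L ∧
      ∀ L' : V → G, Coherent π ω L' → L' (Pi.single 0 1) = L (Pi.single 0 1) → ∀ w, hh w w = 1 → L' w = L w := by
  classical
  have hP : ∀ (g : G) (w : V), hh w w = 1 → IsK ω (π g) w → ∀ o ∈ π.ker, π g ∈ stab π o → o = 1 :=
    fun g w hw hk => hfp w hw _ hk
  set e₀ : V := Pi.single 0 1 with he₀
  have h00 : hh e₀ e₀ = 1 := by rw [he₀, hh_single hF]; simp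
  obtain ⟨k₀, hk₀⟩ := exists_isK hF hω0 hω h00
  obtain ⟨x₀, rfl⟩ := hsurj k₀
  have step : ∀ (x : G) (u w : V), hh u u = 1 → hh w w = 1 → hh u w = 0 → IsK ω (π x) u →
      ∃ y, IsK ω (π y) w ∧ Commute x y := by
    intro x u w hu hw huw hx
    obtain ⟨k, hk⟩ := exists_isK hF hω0 hω hw
    obtain ⟨y, rfl, hy⟩ := exists_commuting_lift hE hsurj (hP x u hu hx) (IsK.comm hF hx hk huw)
    exact ⟨y, hk, hy⟩
  have huniq : ∀ (x : G) (u w : V) (y y' : G), hh u u = 1 → IsK ω (π x) u → IsK ω (π y) w → IsK ω (π y') w →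
      Commute x y → Commute x y' → y = y' := fun x u w y y' hu hx h h' c c' =>
    lift_unique (hP x u hu hx) (IsK.unique hF h h') c c'
  choose! L0 hL0 hL0c using fun (z : V) (hz : hh z z = 1) (hz0 : hh e₀ z = 0) => step x₀ e₀ z h00 hz hz0 hk₀
  choose! zw hzw hzw0 hzww using fun (w : V) (hw : hh w w = 1) =>
    (by obtain ⟨z, z1, z2, z3⟩ := exists_perp_two (hF := hF) w h00
        exact ⟨z, z1, (hh_comm hF).1 z2, z3⟩ : ∃ z, hh z z = 1 ∧ hh e₀ z = 0 ∧ hh z w = 0)
  choose! L hL hLc using fun (w : V) (hw : hh w w = 1) =>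
    step (L0 (zw w)) (zw w) w (hzw w hw) hw (hzww w hw) (hL0 _ (hzw w hw) (hzw0 w hw))
  have orth0 : ∀ z z', hh z z = 1 → hh e₀ z = 0 → hh z' z' = 1 → hh e₀ z' = 0 → hh z z' = 0 →
      Commute (L0 z) (L0 z') := fun z z' h1 h2 h3 h4 h5 =>
    commute_lifts (hP x₀ e₀ h00 hk₀) (IsK.comm hF (hL0 z h1 h2) (hL0 z' h3 h4) h5) (hL0c z h1 h2) (hL0c z' h3 h4)
  have trans1 : ∀ z z' w y, hh z z = 1 → hh e₀ z = 0 → hh z' z' = 1 → hh e₀ z' = 0 → hh z z' = 0 →
      hh z' w = 0 → IsK ω (π y) w → Commute (L0 z) y → Commute (L0 z') y := by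
    intro z z' w y h1 h2 h3 h4 h5 h6 hy hc
    exact commute_lifts (hP _ z h1 (hL0 z h1 h2)) (IsK.comm hF (hL0 z' h3 h4) hy h6) (orth0 z z' h1 h2 h3 h4 h5) hc
  have key : ∀ w, hh w w = 1 → ∀ z, hh z z = 1 → hh e₀ z = 0 → hh z w = 0 → Commute (L0 z) (L w) := by
    intro w hw z hz hz0 hzw'
    have a1 := hzw w hw
    have a2 := hzw0 w hw
    have a3 := hzww w hw
    by_cases h5 : hh (zw w) z = 0
    · exact trans1 _ z w _ a1 a2 hz hz0 h5 hzw' (hL w hw) (hLc w hw)
    by_cases hwe : hh w e₀ = 0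
    · have hwe' := (hh_comm hF).1 hwe
      have e : L w = L0 w := huniq _ _ w _ _ a1 (hL0 _ a1 a2) (hL w hw) (hL0 w hw hwe') (hLc w hw)
        (orth0 _ _ a1 a2 hw hwe' a3)
      rw [e]
      exact orth0 z w hz hz0 hw hwe' hzw'
    set c := hh w e₀ with hc
    set u : V := w + c • e₀ with hu
    set r : V := z + hh z (zw w) • zw w with hr
    have h2 : (2 : F) = 0 := CharTwo.two_eq_zero
    have hc3 : c ^ 3 = 1 := pow_three hF hwe
    have hcw : hh e₀ w = c ^ 2 := herm_swap hF w e₀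
    have hzz : hh z (zw w) ^ 3 = 1 := pow_three hF fun h => h5 ((hh_comm hF).1 h)
    have hb : hh (zw w) z = hh z (zw w) ^ 2 := herm_swap hF z (zw w)
    have a2' := (hh_comm hF).1 a2
    have a3' := (hh_comm hF).1 a3
    have hz0' := (hh_comm hF).1 hz0
    have hzw'' := (hh_comm hF).1 hzw'
    obtain ⟨y, y1, y2, y3, y4, y5⟩ := exists_unit_perp hF h00 a1 a2 (c := u) (d := r) (Or.inr ⟨by
        simp only [hu, herm_add_left, hh_add_right hF, herm_smul_left, hh_smul_right hF, hw, hcw, ← hc, h00]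
        linear_combination hc3 + (1 + c ^ 3) * h2, by
        simp only [hr, herm_add_left, hh_add_right hF, herm_smul_left, hh_smul_right hF, hz, a1, hb]
        linear_combination hzz + (1 + hh z (zw w) ^ 3) * h2, by
        simp only [hu, hr, herm_add_left, hh_add_right hF, herm_smul_left, hh_smul_right hF, hzw'', hz0, a3', a2]
        simp, by
        simp only [hu, herm_add_left, herm_smul_left, h00, ← hc]
        linear_combination c * h2, by
        simp only [hu, herm_add_left, herm_smul_left, a3', a2]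
        simp, by
        simp only [hr, herm_add_left, herm_smul_left, hz0', a2']
        simp, by
        simp only [hr, herm_add_left, herm_smul_left, a1]
        linear_combination hh z (zw w) * h2⟩)
    have y2' := (hh_comm hF).1 y2
    have hyw : hh y w = 0 := by
      have e : w = u + c • e₀ := by
        refine funext fun i => ?_
        simp only [hu, Pi.add_apply, Pi.smul_apply, smul_eq_mul]
        linear_combination (-(c * e₀ i)) * h2
      rw [e, hh_add_right hF, hh_smul_right hF, y4, y2, mul_zero, add_zero]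
    have hyz : hh y z = 0 := by
      have e : z = r + hh z (zw w) • zw w := by
        refine funext fun i => ?_
        simp only [hr, Pi.add_apply, Pi.smul_apply, smul_eq_mul]
        linear_combination (-(hh z (zw w) * zw w i)) * h2
      rw [e, hh_add_right hF, hh_smul_right hF, y5, y3, mul_zero, add_zero]
    have s1 := trans1 _ y w _ a1 a2 y1 y2' ((hh_comm hF).1 y3) hyw (hL w hw) (hLc w hw)
    exact trans1 y z w _ y1 y2' hz hz0 hyz hzw' (hL w hw) s1
  have hcoh : ∀ w w', hh w w = 1 → hh w' w' = 1 → hh w w' = 0 → Commute (L w) (L w') := by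
    intro w w' hw hw' hp
    obtain ⟨y, y1, y2, y3, y4, -⟩ := exists_unit_perp hF hw hw' hp (c := e₀) (d := 0) (Or.inl rfl)
    have y4' := (hh_comm hF).1 y4
    exact commute_lifts (hP _ y y1 (hL0 y y1 y4')) (IsK.comm hF (hL w hw) (hL w' hw') hp)
      (key w hw y y1 y4' y2) (key w' hw' y y1 y4' y3)
  refine ⟨L, ⟨hL, hcoh⟩, fun L' hL' he w hw => ?_⟩
  have he0 : L e₀ = x₀ := by
    obtain ⟨z, z1, z2, -⟩ := exists_perp_two (hF := hF) e₀ h00
    have z2' := (hh_comm hF).1 z2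
    exact huniq _ z e₀ _ _ z1 (hL0 z z1 z2') (hL e₀ h00) hk₀ (key e₀ h00 z z1 z2' z2) (hL0c z z1 z2').symm
  have a1 := hzw w hw
  have a2 := hzw0 w hw
  have hz' : L' (zw w) = L0 (zw w) := huniq x₀ e₀ _ _ _ h00 hk₀ (hL'.1 _ a1) (hL0 _ a1 a2)
    ((he.trans he0) ▸ hL'.2 e₀ _ h00 a1 a2) (hL0c _ a1 a2)
  exact huniq _ _ w _ _ a1 (hL0 _ a1 a2) (hL'.1 w hw) (hL w hw) (hz' ▸ hL'.2 _ _ a1 hw (hzww w hw)) (hLc w hw)

theorem exists_complement_ker (S : Setting D (Tset hF) π) (hE : ElemKer π) :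
    ∃ K : Subgroup G, π.ker.IsComplement' K := by
  obtain ⟨ω, hω0, hω1, hω⟩ := exists_omega hF
  obtain ⟨L, hL, hLu⟩ := exists_coherent hF hE S.surj hω0 hω
    fun w hw k hk o ho hko => fpf S hE hω0 hω1 hω hw hk ho hko
  have h00 : hh (Pi.single (0 : Fin 5) (1 : F)) (Pi.single 0 1) = 1 := by rw [hh_single hF]; simp
  set K : Subgroup G :=
    { carrier := {g | ∀ w, hh w w = 1 → g * L w * g⁻¹ = L (suMat (π g) *ᵥ w)}
      one_mem' := fun w _ => by rw [map_one, suMat_one, Matrix.one_mulVec, one_mul, inv_one, mul_one]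
      mul_mem' := fun {g h} hg hh' w hw => by
        rw [map_mul, suMat_mul, ← Matrix.mulVec_mulVec, ← hg _ (by rw [su_preserves]; exact hw), ← hh' w hw]
        group
      inv_mem' := fun {g} hg w hw => by
        have h := hg (suMat (π g⁻¹) *ᵥ w) (by rw [su_preserves]; exact hw)
        rw [Matrix.mulVec_mulVec, ← suMat_mul, map_inv, mul_inv_cancel, suMat_one, Matrix.one_mulVec] at h
        rw [map_inv, ← h]
        group } with hK
  refine ⟨K, Subgroup.isComplement'_of_disjoint_and_mul_eq_univ ?_ (Set.eq_univ_of_forall fun g => ?_)⟩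
  · rw [Subgroup.disjoint_def]
    intro o ho hoK
    have := hoK (Pi.single 0 1) h00
    rw [MonoidHom.mem_ker.1 ho, suMat_one, Matrix.one_mulVec] at this
    exact fpf S hE hω0 hω1 hω h00 (hL.1 _ h00) ho
      (mem_stab_of (show Commute (L (Pi.single 0 1)) o from (mul_inv_eq_iff_eq_mul.1 this).symm))
  · set y := g * L (suMat (π g)⁻¹ *ᵥ Pi.single 0 1) * g⁻¹ with hy
    have hL' := hL.conj hF g
    have hyK : IsK ω (π y) (Pi.single 0 1) := hL'.1 _ h00
    have hfpy : ∀ o ∈ π.ker, π y ∈ stab π o → o = 1 := fun o ho h => fpf S hE hω0 hω1 hω h00 hyK ho h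
    have hd : L (Pi.single 0 1) * y⁻¹ ∈ π.ker := by
      rw [MonoidHom.mem_ker, map_mul, map_inv, IsK.unique hF hyK (hL.1 _ h00), mul_inv_cancel]
    obtain ⟨o, ho, e⟩ := exists_shift hE hfpy hd
    have ho1 : π o = 1 := ho
    have ho2 : o⁻¹ = o := inv_eq_of_mul_eq_one_right (hE.1 o ho)
    have hog : o * g ∈ K := by
      intro w hw
      have hc := hL.conj hF (o * g)
      have h0 : o * g * L (suMat (π (o * g))⁻¹ *ᵥ Pi.single 0 1) * (o * g)⁻¹ = L (Pi.single 0 1) := by
        rw [map_mul, ho1, one_mul, _root_.mul_inv_rev, show o * g * L (suMat (π g)⁻¹ *ᵥ Pi.single 0 1) *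
          (g⁻¹ * o⁻¹) = o * y * o⁻¹ by rw [hy]; group]
        have e' : o * (y * o * y⁻¹) = L (Pi.single 0 1) * y⁻¹ := by
          rw [(hE.2 o ho _ ((MonoidHom.normal_ker π).conj_mem o ho y)).eq, e]
        calc o * y * o⁻¹ = o * (y * o * y⁻¹) * y := by rw [ho2]; group
          _ = L (Pi.single 0 1) := by rw [e', inv_mul_cancel_right]
      have h := hLu _ hc h0 (suMat (π (o * g)) *ᵥ w) (by rw [su_preserves]; exact hw)
      simp only [su_inv_mulVec] at h
      exact h
    exact ⟨o, ho, o * g, hog, show o * (o * g) = g by rw [← mul_assoc, hE.1 o ho, one_mul]⟩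

end CfsgLib.TwoRad
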