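import Cfsg.Agent.TwoRadical.Basic
import Cfsg.Agent.Solvable.Gaschutz

/-!
The kernel lies in `U (R p)`, given a lifting of a Sylow 2-subgroup and an odd relation inside one perp; hence
it is elementary abelian.
-/

set_option autoImplicit false
set_option linter.unusedSectionVars false

namespace CfsgLib.TwoRad

open CfsgLib.ThreeT

variable {G : Type*} [Group G] [Finite G] {Q : Type*} [Group Q] {D : Set G} {T : Set Q} {π : G →* Q}

theorem Setting.ker_le (S : Setting D T π) (hT : ∀ s ∈ T, ∀ t ∈ T, ∃ g : Q, g * s * g⁻¹ = t)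
    (hlift : ∀ N : Subgroup G, N.Normal → (∀ p ∈ T, R D π p ⊓ π.ker ≤ N) →
      ∃ X : Subgroup G, X ⊓ π.ker ≤ N ∧ ¬ 2 ∣ (π.ker ⊔ X).index)
    {p₁ : Q} (hp₁ : p₁ ∈ T)
    (hodd : ∃ l : List G, (∀ f ∈ l, f ∈ D ∧ Commute (π f) p₁) ∧ Odd l.length ∧ π l.prod = 1)
    {p : Q} (hp : p ∈ T) : π.ker ≤ U D π ⊔ (R D π p ⊓ π.ker) := by
  classical
  set N := U D π ⊔ (R D π p ⊓ π.ker) with hNdef
  have hNk : N ≤ π.ker := sup_le S.U_le_ker inf_le_right
  have hUN : U D π ≤ N := le_sup_left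
  haveI hN : N.Normal := ⟨fun x hx g => by
    have := mul_mem (hUN (S.comm_mem_U g (hNk hx))) hx
    rwa [inv_mul_cancel_right] at this⟩
  have hRall : ∀ t ∈ T, R D π t ⊓ π.ker ≤ N := by
    intro t ht x hx
    obtain ⟨q, hq⟩ := hT p hp t ht
    obtain ⟨g, rfl⟩ := S.surj q
    have h1 : ∀ y ∈ R D π t, g⁻¹ * y * g ∈ R D π p := by
      intro y hy
      induction hy using Subgroup.closure_induction with
      | mem z hz =>
        refine Subgroup.subset_closure ⟨by simpa using S.conj_mem g⁻¹ hz.1, ?_⟩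
        have := (commute_conj_iff (π g)⁻¹ (π z) t).2 hz.2
        rw [← hq] at this
        simpa [mul_assoc] using this
      | one => simp [one_mem]
      | mul a b _ _ ha hb =>
        rw [show g⁻¹ * (a * b) * g = (g⁻¹ * a * g) * (g⁻¹ * b * g) from by group]
        exact mul_mem ha hb
      | inv a _ ha => rw [show g⁻¹ * a⁻¹ * g = (g⁻¹ * a * g)⁻¹ from by group]; exact inv_mem ha
    have h2 : g⁻¹ * x * g ∈ N :=
      Subgroup.mem_sup_right ⟨h1 x hx.1, (MonoidHom.normal_ker π).conj_mem' x hx.2 g⟩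
    have := hN.conj_mem _ h2 g
    rwa [show g * (g⁻¹ * x * g) * g⁻¹ = x from by group] at this
  obtain ⟨X, hX, hXi⟩ := hlift N hN hRall
  set mk := QuotientGroup.mk' N with hmk
  have hmk1 : ∀ x, mk x = 1 ↔ x ∈ N := fun x => QuotientGroup.eq_one_iff x
  set K := π.ker.map mk with hKdef
  have hKc : ∀ k ∈ K, ∀ y : G ⧸ N, y * k = k * y := by
    rintro _ ⟨o, ho, rfl⟩ y
    obtain ⟨g, rfl⟩ := QuotientGroup.mk'_surjective N y
    have h := (hmk1 _).2 (hUN (S.comm_mem_U g ho))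
    rwa [map_mul, map_mul, map_mul, map_inv, map_inv, mul_inv_eq_one, mul_inv_eq_iff_eq_mul] at h
  haveI : K.Normal := ⟨fun k hk y => by rwa [hKc k hk y, mul_inv_cancel_right]⟩
  haveI : IsMulCommutative K := ⟨⟨fun a b => Subtype.ext (hKc b b.2 a)⟩⟩
  have hKp : IsPGroup 2 K := S.two.map mk
  set P := K ⊔ X.map mk with hPdef
  have hPi : P.index = (π.ker ⊔ X).index := by
    rw [hPdef, hKdef, ← Subgroup.map_sup, Subgroup.index_map, QuotientGroup.ker_mk',
      sup_eq_left.2 (hNk.trans le_sup_left), MonoidHom.range_eq_top.2 (QuotientGroup.mk'_surjective N),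
      Subgroup.index_top, mul_one]
  have hcop : (Nat.card K).Coprime P.index := by
    obtain ⟨k, hk⟩ := IsPGroup.iff_card.1 hKp
    rw [hk, hPi]
    exact Nat.Coprime.pow_left k (Nat.prime_two.coprime_iff_not_dvd.2 hXi)
  have hAK : X.map mk ⊓ K = ⊥ := by
    rw [eq_bot_iff]
    rintro _ ⟨⟨x, hx, rfl⟩, ⟨o, ho, e⟩⟩
    have hxo : o⁻¹ * x ∈ N := (hmk1 _).1 (by rw [map_mul, map_inv, e, inv_mul_cancel])
    have hxk : x ∈ π.ker := by simpa using mul_mem ho (hNk hxo)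
    exact Subgroup.mem_bot.2 ((hmk1 _).2 (hX ⟨hx, hxk⟩))
  obtain ⟨H, hH⟩ := CfsgLib.Gaschutz.exists_complement (le_sup_left : K ≤ P) hcop (X.map mk) le_sup_right hAK rfl
  have hdec : ∀ y : G ⧸ N, ∃ k ∈ K, ∃ h ∈ H, k * h = y := fun y => by
    obtain ⟨⟨k, h⟩, e, -⟩ := Subgroup.isComplement_iff_existsUnique.1 hH y
    exact ⟨k, k.2, h, h.2, e⟩
  haveI : H.Normal := ⟨fun h hh y => by
    obtain ⟨k, hk, h', hh', rfl⟩ := hdec y
    have hw : h' * h * h'⁻¹ ∈ H := mul_mem (mul_mem hh' hh) (inv_mem hh')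
    rw [show k * h' * h * (k * h')⁻¹ = k * (h' * h * h'⁻¹) * k⁻¹ from by group, ← hKc k hk,
      mul_inv_cancel_right]
    exact hw⟩
  set ψ : G →* (G ⧸ N) ⧸ H := (QuotientGroup.mk' H).comp mk with hψ
  have hψK : ∀ g, ∃ o ∈ π.ker, ψ o = ψ g := fun g => by
    obtain ⟨_, ⟨o, ho, rfl⟩, h, hh, e⟩ := hdec (mk g)
    refine ⟨o, ho, ?_⟩
    show (QuotientGroup.mk' H) (mk o) = (QuotientGroup.mk' H) (mk g)
    rw [← e, map_mul, show (QuotientGroup.mk' H) h = 1 from (QuotientGroup.eq_one_iff h).2 hh, mul_one]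
  have habel : ∀ g g' : G, Commute (ψ g) (ψ g') := fun g g' => by
    obtain ⟨o, ho, e⟩ := hψK g
    rw [← e]
    exact (show Commute (mk o) (mk g') from (hKc _ ⟨o, ho, rfl⟩ _).symm).map (QuotientGroup.mk' H)
  obtain ⟨d₀, hd₀, -⟩ := S.exists_member hp₁
  have hd : ∀ d ∈ D, ψ d = ψ d₀ := fun d hd => by
    obtain ⟨g, rfl⟩ := isConj_iff.1 (S.isConj hd₀ hd)
    rw [map_mul, map_mul, (habel g d₀).eq, map_inv, mul_inv_cancel_right]
  obtain ⟨l, hl, hlen, hprod⟩ := hodd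
  have hlR : l.prod ∈ R D π p₁ ⊓ π.ker :=
    ⟨Subgroup.list_prod_mem _ fun f hf => Subgroup.subset_closure (hl f hf), hprod⟩
  have ha : ψ d₀ = 1 := by
    have h1 : ψ l.prod = 1 := by
      show (QuotientGroup.mk' H) (mk l.prod) = 1
      rw [(hmk1 _).2 (hRall p₁ hp₁ hlR), map_one]
    rw [map_list_prod, List.eq_replicate_of_mem (a := ψ d₀) (l := l.map ψ) (fun b hb => by
      obtain ⟨f, hf, rfl⟩ := List.mem_map.1 hb
      exact hd f (hl f hf).1), List.prod_replicate, List.length_map] at h1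
    have h2 : ψ d₀ ^ 2 = 1 := by rw [← map_pow, pow_two, sq S.set hd₀, map_one]
    obtain ⟨k, hk⟩ := hlen
    rwa [hk, pow_succ, pow_mul, h2, one_pow, one_mul] at h1
  have hψ1 : ∀ g, ψ g = 1 := fun g => by
    have hg : g ∈ Subgroup.closure D := S.cls.2.2 ▸ Subgroup.mem_top g
    have : Subgroup.closure D ≤ ψ.ker := (Subgroup.closure_le _).2 fun d hd' => (hd d hd').trans ha
    exact this hg
  intro o ho
  refine (hmk1 o).1 ?_
  have h1 : mk o ∈ H := (QuotientGroup.eq_one_iff _).1 (hψ1 o)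
  have h2 : mk o ∈ K ⊓ H := ⟨⟨o, ho, rfl⟩, h1⟩
  rwa [hH.disjoint.eq_bot, Subgroup.mem_bot] at h2

theorem Setting.kernel_elementary (S : Setting D T π) (hT : ∀ s ∈ T, ∀ t ∈ T, ∃ g : Q, g * s * g⁻¹ = t)
    (hlift : ∀ N : Subgroup G, N.Normal → (∀ p ∈ T, R D π p ⊓ π.ker ≤ N) →
      ∃ X : Subgroup G, X ⊓ π.ker ≤ N ∧ ¬ 2 ∣ (π.ker ⊔ X).index)
    {p₁ : Q} (hp₁ : p₁ ∈ T)
    (hodd : ∃ l : List G, (∀ f ∈ l, f ∈ D ∧ Commute (π f) p₁) ∧ Odd l.length ∧ π l.prod = 1) :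
    (∀ o ∈ π.ker, o * o = 1) ∧ ∀ o ∈ π.ker, ∀ o' ∈ π.ker, Commute o o' := by
  refine S.elementary fun o ho x hx => ?_
  induction hx using Subgroup.closure_induction with
  | mem z hz =>
    obtain ⟨a, ha, b, hb, e, rfl⟩ := hz
    have hA : a * b ∈ A D π (π a) := Subgroup.subset_closure ⟨a, ha, b, hb, rfl, e.symm, rfl⟩
    haveI := S.U_normal
    obtain ⟨u, hu, r, hr, rfl⟩ := Subgroup.mem_sup_of_normal_left.1
      (S.ker_le hT hlift hp₁ hodd (S.mem_T ha) ho)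
    refine (S.U_comm hu (S.A_le_U _ hA)).mul_left ?_
    have hr1 : r ∈ R D π (π a) := hr.1
    clear hr ho
    induction hr1 using Subgroup.closure_induction with
    | mem f hf => exact S.commute_A hf.1 hf.2 hA
    | one => exact Commute.one_left _
    | mul u v _ _ hu hv => exact hu.mul_left hv
    | inv u _ hu => exact hu.inv_left
  | one => exact Commute.one_right _
  | mul u v _ _ hu hv => exact hu.mul_right hv
  | inv u _ hu => exact hu.inv_right

end CfsgLib.TwoRad
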