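import Cfsg.Agent.Spor3T.Basic
import Mathlib.GroupTheory.PGroup

/-!
A class of 3-transpositions mapping onto a set `T` of involutions with a 2-group as kernel: the subgroups
`A t` generated by products of two members over `t`, their commuting, and their join `U`.
-/

set_option autoImplicit false
set_option linter.unusedSectionVars false

namespace CfsgLib.TwoRad

open CfsgLib.ThreeT
open scoped commutatorElement

variable {G : Type*} [Group G] [Finite G] {Q : Type*} [Group Q]

/-- The hypotheses: `D` is a class of 3-transpositions generating `G` with trivial centre, `π` maps it onto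
`T` with 2-group kernel, and any two non-commuting members of `T` have perps generating `Q`. -/
structure Setting (D : Set G) (T : Set Q) (π : G →* Q) : Prop where
  cls : Cfsg.IsThreeTranspositionClass D
  center : Subgroup.center G = ⊥
  surj : Function.Surjective π
  two : IsPGroup 2 π.ker
  img : π '' D = T
  gen : ∀ s ∈ T, ∀ t ∈ T, ¬ Commute s t → ∀ H : Subgroup Q,
    (∀ x ∈ T, Commute x s ∨ Commute x t → x ∈ H) → H = ⊤

/-- Products of two members of `D` over `t`. -/
def A (D : Set G) (π : G →* Q) (t : Q) : Subgroup G :=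
  Subgroup.closure {x | ∃ a ∈ D, ∃ b ∈ D, π a = t ∧ π b = t ∧ a * b = x}

/-- Products of two members of `D` with equal image. -/
def U (D : Set G) (π : G →* Q) : Subgroup G :=
  Subgroup.closure {x | ∃ a ∈ D, ∃ b ∈ D, π a = π b ∧ a * b = x}

/-- Generated by the members over the perp of `p`. -/
def R (D : Set G) (π : G →* Q) (p : Q) : Subgroup G :=
  Subgroup.closure {f | f ∈ D ∧ Commute (π f) p}

variable {D : Set G} {T : Set Q} {π : G →* Q} (S : Setting D T π)
include S

theorem Setting.set : Cfsg.IsThreeTranspositionSet D := S.cls.1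

theorem Setting.conj_mem (g : G) {d : G} (hd : d ∈ D) : g * d * g⁻¹ ∈ D := by
  obtain ⟨d₀, -, hD⟩ := S.cls.2.1
  rw [hD, conjugatesOf, Set.mem_setOf_eq] at hd ⊢
  exact hd.trans (isConj_iff.2 ⟨g, rfl⟩)

theorem Setting.isConj {a b : G} (ha : a ∈ D) (hb : b ∈ D) : IsConj a b := by
  obtain ⟨d₀, -, hD⟩ := S.cls.2.1
  rw [hD, conjugatesOf, Set.mem_setOf_eq] at ha hb
  exact ha.symm.trans hb

theorem Setting.mem_T {d : G} (hd : d ∈ D) : π d ∈ T := S.img ▸ ⟨d, hd, rfl⟩

theorem Setting.exists_member {t : Q} (ht : t ∈ T) : ∃ d ∈ D, π d = t := by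
  rw [← S.img] at ht; exact ht

theorem Setting.conj_T (q : Q) {t : Q} (ht : t ∈ T) : q * t * q⁻¹ ∈ T := by
  obtain ⟨d, hd, rfl⟩ := S.exists_member ht
  obtain ⟨g, rfl⟩ := S.surj q
  rw [← map_inv, ← map_mul, ← map_mul]
  exact S.mem_T (S.conj_mem g hd)

/-- Members with commuting images commute. -/
theorem Setting.commute_of_img {a b : G} (ha : a ∈ D) (hb : b ∈ D) (h : Commute (π a) (π b)) :
    Commute a b := by
  have h2 : ∀ d ∈ D, π d * π d = 1 := fun d hd => by rw [← map_mul, sq S.set hd, map_one]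
  set K : Subgroup Q :=
    { carrier := {1, π a, π b, π a * π b}
      one_mem' := by simp
      mul_mem' := by
        intro x y hx hy
        have e1 := h2 a ha
        have e2 := h2 b hb
        have e3 : π b * π a = π a * π b := h.symm.eq
        simp only [Set.mem_insert_iff, Set.mem_singleton_iff] at hx hy ⊢
        rcases hx with rfl | rfl | rfl | rfl <;> rcases hy with rfl | rfl | rfl | rfl <;>
          simp [e1, e2, e3, mul_assoc, ← mul_assoc (π b) (π a), ← mul_assoc (π a) (π a), ← mul_assoc (π b) (π b)]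
      inv_mem' := by
        intro x hx
        have e1 := inv_eq_of_mul_eq_one_right (h2 a ha)
        have e2 := inv_eq_of_mul_eq_one_right (h2 b hb)
        simp only [Set.mem_insert_iff, Set.mem_singleton_iff] at hx ⊢
        rcases hx with rfl | rfl | rfl | rfl <;> simp [mul_inv_rev, e1, e2, h.symm.eq] }
  have hK : IsPGroup 2 K := by
    intro x
    refine ⟨1, Subtype.ext ?_⟩
    have hx : (x : Q) ∈ ({1, π a, π b, π a * π b} : Set Q) := x.2
    simp only [Set.mem_insert_iff, Set.mem_singleton_iff] at hx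
    simp only [pow_one, pow_two, Subgroup.coe_mul, OneMemClass.coe_one]
    rcases hx with e | e | e | e <;> rw [e]
    · exact one_mul 1
    · exact h2 a ha
    · exact h2 b hb
    · rw [h.symm.mul_mul_mul_comm, h2 a ha, h2 b hb, one_mul]
  exact commute_of_two_group S.set ha hb (IsPGroup.comap_of_ker_isPGroup hK π S.two)
    (show π a ∈ K from Or.inr (Or.inl rfl)) (show π b ∈ K from Or.inr (Or.inr (Or.inl rfl)))

theorem Setting.A_le_ker (t : Q) : A D π t ≤ π.ker := by
  refine (Subgroup.closure_le _).2 ?_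
  rintro x ⟨a, ha, b, hb, e1, e2, rfl⟩
  rw [SetLike.mem_coe, MonoidHom.mem_ker, map_mul, e1, ← e2, ← map_mul, sq S.set hb, map_one]

theorem Setting.A_le_U (t : Q) : A D π t ≤ U D π := by
  refine Subgroup.closure_mono ?_
  rintro x ⟨a, ha, b, hb, e1, e2, rfl⟩
  exact ⟨a, ha, b, hb, e1.trans e2.symm, rfl⟩

theorem Setting.U_le_ker : U D π ≤ π.ker := by
  refine (Subgroup.closure_le _).2 ?_
  rintro x ⟨a, ha, b, hb, e, rfl⟩
  rw [SetLike.mem_coe, MonoidHom.mem_ker, map_mul, e, ← map_mul, sq S.set hb, map_one]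

theorem Setting.conj_A (g : G) {t : Q} {x : G} (hx : x ∈ A D π t) :
    g * x * g⁻¹ ∈ A D π (π g * t * (π g)⁻¹) := by
  have h : (A D π t).map (MulAut.conj g).toMonoidHom ≤ A D π (π g * t * (π g)⁻¹) := by
    rw [A, MonoidHom.map_closure, Subgroup.closure_le]
    rintro _ ⟨_, ⟨a, ha, b, hb, e1, e2, rfl⟩, rfl⟩
    refine Subgroup.subset_closure ⟨g * a * g⁻¹, S.conj_mem g ha, g * b * g⁻¹, S.conj_mem g hb,
      by rw [map_mul, map_mul, map_inv, e1], by rw [map_mul, map_mul, map_inv, e2], ?_⟩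
    show g * a * g⁻¹ * (g * b * g⁻¹) = g * (a * b) * g⁻¹
    group
  exact h ⟨x, hx, rfl⟩

theorem Setting.conj_A_ker {o : G} (ho : o ∈ π.ker) {t : Q} {x : G} (hx : x ∈ A D π t) :
    o * x * o⁻¹ ∈ A D π t := by
  have := S.conj_A o hx
  rwa [MonoidHom.mem_ker.1 ho, one_mul, inv_one, mul_one] at this

/-- A member over the perp of `t` centralises `A t`. -/
theorem Setting.commute_A {f : G} (hf : f ∈ D) {t : Q} (h : Commute (π f) t) {x : G}
    (hx : x ∈ A D π t) : Commute f x := by
  induction hx using Subgroup.closure_induction with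
  | mem y hy =>
    obtain ⟨a, ha, b, hb, e1, e2, rfl⟩ := hy
    exact (S.commute_of_img hf ha (e1 ▸ h)).mul_right (S.commute_of_img hf hb (e2 ▸ h))
  | one => exact Commute.one_right f
  | mul a b _ _ ha hb => exact ha.mul_right hb
  | inv a _ ha => exact ha.inv_right

theorem Setting.eq_one_of_commute_D {x : G} (h : ∀ d ∈ D, Commute d x) : x = 1 := by
  refine Subgroup.mem_bot.1 (S.center ▸ Subgroup.mem_center_iff.2 fun g => ?_)
  have hg : g ∈ Subgroup.closure D := S.cls.2.2 ▸ Subgroup.mem_top g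
  induction hg using Subgroup.closure_induction with
  | mem y hy => exact (h y hy).eq
  | one => simp
  | mul a b _ _ ha hb => exact (Commute.mul_left ha hb).eq
  | inv a _ ha => exact (Commute.inv_left ha).eq

/-- An element commuting with all members over two perps of non-commuting members of `T` is trivial. -/
theorem Setting.eq_one_of_perps {s t : Q} (hs : s ∈ T) (ht : t ∈ T) (hst : ¬ Commute s t) {x : G}
    (h : ∀ f ∈ D, Commute (π f) s ∨ Commute (π f) t → Commute f x) : x = 1 := by
  set F : Set G := {f | f ∈ D ∧ (Commute (π f) s ∨ Commute (π f) t)} with hFdef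
  set K := Subgroup.closure F with hKdef
  have himg : K.map π = ⊤ := by
    refine S.gen s hs t ht hst _ fun y hy hc => ?_
    obtain ⟨f, hf, rfl⟩ := S.exists_member hy
    exact ⟨f, Subgroup.subset_closure ⟨hf, hc⟩, rfl⟩
  have hnorm : ∀ g : G, ∀ k ∈ K, g * k * g⁻¹ ∈ K := by
    intro g
    obtain ⟨k₁, hk₁, e⟩ := (himg.ge (Subgroup.mem_top (π g)) : π g ∈ K.map π)
    have ho : π (k₁⁻¹ * g) = 1 := by rw [map_mul, map_inv, e, inv_mul_cancel]
    have key : ∀ k ∈ K, (k₁⁻¹ * g) * k * (k₁⁻¹ * g)⁻¹ ∈ K := by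
      intro k hk
      induction hk using Subgroup.closure_induction with
      | mem y hy =>
        refine Subgroup.subset_closure ⟨S.conj_mem _ hy.1, ?_⟩
        rw [map_mul, map_mul, map_inv, ho, one_mul, inv_one, mul_one]
        exact hy.2
      | one => simp [one_mem]
      | mul a b _ _ ha hb =>
        rw [show (k₁⁻¹ * g) * (a * b) * (k₁⁻¹ * g)⁻¹ =
          ((k₁⁻¹ * g) * a * (k₁⁻¹ * g)⁻¹) * ((k₁⁻¹ * g) * b * (k₁⁻¹ * g)⁻¹) from by group]
        exact mul_mem ha hb
      | inv a _ ha =>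
        rw [show (k₁⁻¹ * g) * a⁻¹ * (k₁⁻¹ * g)⁻¹ = ((k₁⁻¹ * g) * a * (k₁⁻¹ * g)⁻¹)⁻¹ from by group]
        exact inv_mem ha
    intro k hk
    have := mul_mem (mul_mem hk₁ (key k hk)) (inv_mem hk₁)
    rwa [show k₁ * ((k₁⁻¹ * g) * k * (k₁⁻¹ * g)⁻¹) * k₁⁻¹ = g * k * g⁻¹ from by group] at this
  obtain ⟨d, hd, hds⟩ := S.exists_member hs
  have hdK : d ∈ K := Subgroup.subset_closure ⟨hd, Or.inl (hds ▸ Commute.refl _)⟩
  refine S.eq_one_of_commute_D fun e he => ?_
  obtain ⟨g, rfl⟩ := isConj_iff.1 (S.isConj hd he)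
  have heK := hnorm g d hdK
  revert heK
  generalize g * d * g⁻¹ = e'
  intro heK
  induction heK using Subgroup.closure_induction with
  | mem y hy => exact h y hy.1 hy.2
  | one => exact Commute.one_left x
  | mul a b _ _ ha hb => exact ha.mul_left hb
  | inv a _ ha => exact ha.inv_left

theorem Setting.A_inf_A {s t : Q} (hs : s ∈ T) (ht : t ∈ T) (hst : ¬ Commute s t) {x : G}
    (h1 : x ∈ A D π s) (h2 : x ∈ A D π t) : x = 1 :=
  S.eq_one_of_perps hs ht hst fun _ hf hc => hc.elim (fun c => S.commute_A hf c h1) fun c => S.commute_A hf c h2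

/-- An element of `A t` fixed by a member over a non-commuting `s` is trivial. -/
theorem Setting.A_fixed {e : G} (he : e ∈ D) {t : Q} (ht : t ∈ T) (hst : ¬ Commute (π e) t) {x : G}
    (hx : x ∈ A D π t) (hc : Commute e x) : x = 1 := by
  refine S.A_inf_A (S.conj_T (π e) ht) ht ?_ (x := x) ?_ hx
  · intro h
    obtain ⟨d, hd, rfl⟩ := S.exists_member ht
    have hed : ¬ Commute e d := fun c => hst (c.map π)
    have hb := braid S.set he hd hed
    have ei : (π e)⁻¹ = π e := by rw [← map_inv, inv S.set he]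
    rw [ei, ← map_mul, ← map_mul, hb] at h
    apply hst
    have e2 : π d * π d = 1 := by rw [← map_mul, sq S.set hd, map_one]
    simp only [map_mul] at h
    have h' : π d * π e * π d * π d = π d * (π d * π e * π d) := h.eq
    simp only [mul_assoc, e2, mul_one, ← mul_assoc (π d) (π d), one_mul] at h'
    exact h'.symm
  · have := S.conj_A e hx
    rwa [hc.eq, mul_inv_cancel_right] at this

theorem Setting.commute_A_A {s t : Q} (hs : s ∈ T) (ht : t ∈ T) {x y : G} (hx : x ∈ A D π s)
    (hy : y ∈ A D π t) : Commute x y := by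
  by_cases hst : Commute s t
  · induction hx using Subgroup.closure_induction with
    | mem z hz =>
      obtain ⟨a, ha, b, hb, e1, e2, rfl⟩ := hz
      exact (S.commute_A ha (e1 ▸ hst) hy).mul_left (S.commute_A hb (e2 ▸ hst) hy)
    | one => exact Commute.one_left _
    | mul a b _ _ ha hb => exact ha.mul_left hb
    | inv a _ ha => exact ha.inv_left
  · refine commutatorElement_eq_one_iff_commute.1 (S.A_inf_A hs ht hst ?_ ?_)
    · rw [commutatorElement_def, mul_assoc, mul_assoc]
      refine mul_mem hx ?_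
      rw [← mul_assoc]
      exact S.conj_A_ker (S.A_le_ker t hy) (inv_mem hx)
    · rw [commutatorElement_def]
      exact mul_mem (S.conj_A_ker (S.A_le_ker s hx) hy) (inv_mem hy)

theorem Setting.U_comm {x y : G} (hx : x ∈ U D π) (hy : y ∈ U D π) : Commute x y := by
  induction hx using Subgroup.closure_induction with
  | mem z hz =>
    obtain ⟨a, ha, b, hb, e, rfl⟩ := hz
    have hz' : a * b ∈ A D π (π a) := Subgroup.subset_closure ⟨a, ha, b, hb, rfl, e.symm, rfl⟩
    induction hy using Subgroup.closure_induction with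
    | mem w hw =>
      obtain ⟨c, hc, d, hd, e', rfl⟩ := hw
      exact S.commute_A_A (S.mem_T ha) (S.mem_T hc) hz'
        (Subgroup.subset_closure ⟨c, hc, d, hd, rfl, e'.symm, rfl⟩)
    | one => exact Commute.one_right _
    | mul u v _ _ hu hv => exact hu.mul_right hv
    | inv u _ hu => exact hu.inv_right
  | one => exact Commute.one_left _
  | mul u v _ _ hu hv => exact hu.mul_left hv
  | inv u _ hu => exact hu.inv_left

theorem Setting.U_sq {x : G} (hx : x ∈ U D π) : x * x = 1 := by
  induction hx using Subgroup.closure_induction with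
  | mem z hz =>
    obtain ⟨a, ha, b, hb, e, rfl⟩ := hz
    have hc := S.commute_of_img ha hb (e ▸ Commute.refl _)
    rw [hc.symm.mul_mul_mul_comm, sq S.set ha, sq S.set hb, one_mul]
  | one => exact one_mul 1
  | mul u v hu hv eu ev => rw [(S.U_comm hu hv).symm.mul_mul_mul_comm, eu, ev, one_mul]
  | inv u _ eu => rw [← mul_inv_rev, eu, inv_one]

theorem Setting.U_normal : (U D π).Normal := by
  refine ⟨fun x hx g => ?_⟩
  induction hx using Subgroup.closure_induction with
  | mem z hz =>
    obtain ⟨a, ha, b, hb, e, rfl⟩ := hz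
    refine Subgroup.subset_closure ⟨g * a * g⁻¹, S.conj_mem g ha, g * b * g⁻¹, S.conj_mem g hb,
      by rw [map_mul, map_mul, map_mul, map_mul, e], ?_⟩
    group
  | one => simp [one_mem]
  | mul u v _ _ hu hv =>
    rw [show g * (u * v) * g⁻¹ = (g * u * g⁻¹) * (g * v * g⁻¹) from by group]
    exact mul_mem hu hv
  | inv u _ hu => rw [show g * u⁻¹ * g⁻¹ = (g * u * g⁻¹)⁻¹ from by group]; exact inv_mem hu

/-- `[d, o] ∈ A (π d)` for `o` in the kernel. -/
theorem Setting.comm_mem_A {d : G} (hd : d ∈ D) {o : G} (ho : o ∈ π.ker) :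
    d * (o * d * o⁻¹) ∈ A D π (π d) :=
  Subgroup.subset_closure ⟨d, hd, o * d * o⁻¹, S.conj_mem o hd, rfl,
    by rw [map_mul, map_mul, map_inv, MonoidHom.mem_ker.1 ho, one_mul, inv_one, mul_one], rfl⟩

/-- The kernel is central modulo `U`. -/
theorem Setting.comm_mem_U (g : G) {o : G} (ho : o ∈ π.ker) : g * o * g⁻¹ * o⁻¹ ∈ U D π := by
  have hg : g ∈ Subgroup.closure D := S.cls.2.2 ▸ Subgroup.mem_top g
  revert o
  induction hg using Subgroup.closure_induction with
  | mem d hd =>
    intro o ho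
    have := S.A_le_U _ (S.comm_mem_A hd ho)
    rwa [inv S.set hd, show d * o * d * o⁻¹ = d * (o * d * o⁻¹) from by group]
  | one => intro o _; simp [one_mem]
  | mul a b _ _ ha hb =>
    intro o ho
    have hb' : b * o * b⁻¹ ∈ π.ker := (MonoidHom.normal_ker π).conj_mem o ho b
    rw [show a * b * o * (a * b)⁻¹ * o⁻¹ =
      (a * (b * o * b⁻¹) * a⁻¹ * (b * o * b⁻¹)⁻¹) * (b * o * b⁻¹ * o⁻¹) from by group]
    exact mul_mem (ha hb') (hb ho)
  | inv a _ ha =>
    intro o ho
    have h' : a⁻¹ * o * a ∈ π.ker := (MonoidHom.normal_ker π).conj_mem' o ho a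
    have := inv_mem (ha h')
    rwa [show (a * (a⁻¹ * o * a) * a⁻¹ * (a⁻¹ * o * a)⁻¹)⁻¹ = a⁻¹ * o * a⁻¹⁻¹ * o⁻¹ from by group] at this

theorem Setting.elementary (hU : ∀ o ∈ π.ker, ∀ x ∈ U D π, Commute o x) :
    (∀ o ∈ π.ker, o * o = 1) ∧ ∀ o ∈ π.ker, ∀ o' ∈ π.ker, Commute o o' := by
  have hα : ∀ o ∈ π.ker, ∀ d ∈ D, ∃ α ∈ A D π (π d), o * d * o⁻¹ = d * α := fun o ho d hd =>
    ⟨d * (o * d * o⁻¹), S.comm_mem_A hd ho, by rw [← mul_assoc, sq S.set hd, one_mul]⟩
  constructor
  · intro o ho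
    refine S.eq_one_of_commute_D fun d hd => ?_
    obtain ⟨α, hαm, e⟩ := hα o ho d hd
    have hαU := S.A_le_U _ hαm
    have e2 : o * o * d * (o * o)⁻¹ = d := by
      calc o * o * d * (o * o)⁻¹ = o * (o * d * o⁻¹) * o⁻¹ := by group
        _ = o * (d * α) * o⁻¹ := by rw [e]
        _ = (o * d * o⁻¹) * (o * α * o⁻¹) := by group
        _ = d * α * α := by rw [e, (hU o ho α hαU).eq, mul_inv_cancel_right]
        _ = d := by rw [mul_assoc, S.U_sq hαU, mul_one]
    exact (mul_inv_eq_iff_eq_mul.1 e2).symm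
  · intro o ho o' ho'
    have hc : o'⁻¹ * o⁻¹ * o' * o = 1 := S.eq_one_of_commute_D fun d hd => by
      obtain ⟨α, hαm, e⟩ := hα o ho d hd
      obtain ⟨β, hβm, e'⟩ := hα o' ho' d hd
      have hαU := S.A_le_U _ hαm
      have hβU := S.A_le_U _ hβm
      have c1 : o * o' * d * (o * o')⁻¹ = d * α * β := by
        calc o * o' * d * (o * o')⁻¹ = o * (o' * d * o'⁻¹) * o⁻¹ := by group
          _ = (o * d * o⁻¹) * (o * β * o⁻¹) := by rw [e']; group
          _ = _ := by rw [e, (hU o ho β hβU).eq, mul_inv_cancel_right]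
      have c2 : o' * o * d * (o' * o)⁻¹ = d * α * β := by
        calc o' * o * d * (o' * o)⁻¹ = o' * (o * d * o⁻¹) * o'⁻¹ := by group
          _ = (o' * d * o'⁻¹) * (o' * α * o'⁻¹) := by rw [e]; group
          _ = d * β * α := by rw [e', (hU o' ho' α hαU).eq, mul_inv_cancel_right]
          _ = _ := by rw [mul_assoc, (S.U_comm hβU hαU).eq, ← mul_assoc]
      have := c1.trans c2.symm
      show d * (o'⁻¹ * o⁻¹ * o' * o) = o'⁻¹ * o⁻¹ * o' * o * d
      calc d * (o'⁻¹ * o⁻¹ * o' * o) = (o * o')⁻¹ * (o * o' * d * (o * o')⁻¹) * (o' * o) := by group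
        _ = (o * o')⁻¹ * (o' * o * d * (o' * o)⁻¹) * (o' * o) := by rw [this]
        _ = _ := by group
    show o * o' = o' * o
    calc o * o' = o * o' * (o'⁻¹ * o⁻¹ * o' * o) := by rw [hc, mul_one]
      _ = o' * o := by group

end CfsgLib.TwoRad
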