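import Cfsg.Agent.TwoRadical.Points
import Cfsg.Agent.TwoRadical.Basic

/-!
A Sylow 2-subgroup of `SU₅(2)` or `SU₇(2)` as an iterated product of unipotent radicals, and its lift.
-/

set_option autoImplicit false
set_option linter.unusedSectionVars false
set_option linter.style.haveILetI false

namespace CfsgLib.TwoRad

open Matrix CfsgLib.Unitary

variable {F : Type} [Field F] [Finite F] [CharP F 2] {n : ℕ} (hF : Nat.card F = 2 ^ 2)

local notation "V" => Fin n → F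
local notation "hh" => Cfsg.hermForm n F 2

/-- Elements fixing the first `m` basis vectors. -/
def fixFirst (m : ℕ) : Subgroup (Cfsg.SU n F 2) where
  carrier := {g | ∀ i : Fin n, (i : ℕ) < m → suMat g *ᵥ Pi.single i (1 : F) = Pi.single i 1}
  one_mem' i _ := by rw [suMat_one, Matrix.one_mulVec]
  mul_mem' {g h} hg hh' i hi := by rw [suMat_mul, ← Matrix.mulVec_mulVec, hh' i hi, hg i hi]
  inv_mem' {g} hg i hi := by conv_lhs => rw [← hg i hi, su_inv_mulVec]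

/-- `p` is the `k`-th standard point. -/
def IsPk (k : ℕ) (p : V) : Prop :=
  ∃ (h : 2 * k + 1 < n), p = Pi.single ⟨2 * k, by omega⟩ 1 + Pi.single ⟨2 * k + 1, h⟩ 1

/-- Vectors supported from `m` on. -/
def SupFrom (m : ℕ) (a : V) : Prop := ∀ i : Fin n, (i : ℕ) < m → a i = 0

include hF

theorem hh_coord (y : V) (i : Fin n) : hh y (Pi.single i 1) = y i := by
  rw [hh_single hF, one_pow, mul_one]

theorem single_hh (i : Fin n) (a : V) : hh (Pi.single i 1) a = a i ^ 2 := by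
  rw [herm_swap hF a, hh_coord hF]

theorem supFrom_image {m : ℕ} {g : Cfsg.SU n F 2} (hg : g ∈ fixFirst m) {a : V} (ha : SupFrom m a) :
    SupFrom m (suMat g *ᵥ a) := by
  intro i hi
  rw [← hh_coord hF (suMat g *ᵥ a) i, ← hg i hi, su_preserves, hh_coord hF, ha i hi]

theorem IsPk.pt {k : ℕ} {p : V} (hp : IsPk k p) : Pt p := by
  obtain ⟨h, rfl⟩ := hp
  constructor
  · intro e
    have := congrFun e ⟨2 * k + 1, h⟩
    simp at this
  · rw [hh_add_right hF, hh_coord hF, hh_coord hF]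
    simp [CharTwo.add_self_eq_zero]

theorem IsPk.perp {k : ℕ} {p a : V} (hp : IsPk k p) (ha : SupFrom (2 * k + 2) a) : hh a p = 0 := by
  obtain ⟨h, rfl⟩ := hp
  rw [hh_add_right hF, hh_coord hF, hh_coord hF, ha _ (by simp), ha _ (by simp), add_zero]

theorem IsPk.fixed {k : ℕ} {p : V} (hp : IsPk k p) {g : Cfsg.SU n F 2} (hg : g ∈ fixFirst (2 * k + 2)) :
    suMat g *ᵥ p = p := by
  obtain ⟨h, rfl⟩ := hp
  rw [Matrix.mulVec_add, hg _ (by simp), hg _ (by simp)]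

theorem eichIn_all (hn : 4 ≤ n) {p a : V} (hp : Pt p) (ha : hh a p = 0) : EichIn hF p a := by
  intro s g hs hg
  obtain ⟨c, hc⟩ := exists_SU_vec hF (by omega) (pt_pStd hF hn).1 hp.1 (pt_pStd hF hn).2 hp.2
  have hc' : suMat c⁻¹ *ᵥ p = (pStd hn : V) := by rw [← hc, su_inv_mulVec]
  have hg' := IsEich.conj hF hg c⁻¹
  rw [hc', inv_inv] at hg'
  have h1 : c⁻¹ * g * c ∈ perpGp hF (pStd hn : V) := eichIn_std hF hn
    (by rw [← hc', su_preserves, ha]) s _ (by rw [su_preserves]; exact hs) hg'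
  have h2 : (perpGp hF (pStd hn : V)).map (MulAut.conj c).toMonoidHom ≤ perpGp hF p := by
    rw [perpGp, MonoidHom.map_closure, Subgroup.closure_le]
    rintro _ ⟨x, ⟨hx, hxc⟩, rfl⟩
    refine Subgroup.subset_closure ⟨conj_Tset hF c hx, ?_⟩
    rw [← hc, ← tv_conj hF c (pt_pStd hF hn).2]
    exact hxc.map (MulAut.conj c).toMonoidHom
  have := h2 ⟨_, h1, rfl⟩
  rwa [show (MulAut.conj c).toMonoidHom (c⁻¹ * g * c) = g from (by
    show c * (c⁻¹ * g * c) * c⁻¹ = g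
    group)] at this

theorem pow_four {μ : F} : μ ^ 4 = μ := by
  rcases eq_or_ne μ 0 with rfl | h
  · simp
  · rw [pow_succ, pow_three hF h, one_mul]

/-- The radical at the `k`-th point, cut down to the later coordinates. -/
def rad (k : ℕ) {p : V} (hp : IsPk k p) : Subgroup (Cfsg.SU n F 2) :=
  let M : Submonoid (Cfsg.SU n F 2) :=
  { carrier := {g | ∃ a s, SupFrom (2 * k + 2) a ∧ s + s ^ 2 + hh a a = 0 ∧ IsEich g p a s}
    one_mem' := ⟨0, 0, fun _ _ => rfl, by rw [hh_zero_left hF]; simp, IsEich.one hF⟩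
    mul_mem' := by
      rintro g g' ⟨a, s, ha, hs, hg⟩ ⟨b, r, hb, hr, hg'⟩
      refine ⟨a + b, s + r + hh b a, fun i hi => by rw [Pi.add_apply, ha i hi, hb i hi, add_zero], ?_,
        IsEich.mul hF (hp.pt hF).2 (hp.perp hF ha) (hp.perp hF hb) hg hg'⟩
      rw [herm_add_left, hh_add_right hF, hh_add_right hF,
        show hh a b = hh b a ^ 2 from herm_swap hF b a]
      linear_combination hs + hr + (s * r + s * hh b a + r * hh b a + hh b a + hh b a ^ 2) *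
        (CharTwo.two_eq_zero (R := F)) }
  { M with
    inv_mem' := by
      intro g hg
      show g⁻¹ ∈ M
      rw [show g⁻¹ = g ^ (orderOf g - 1) from inv_eq_of_mul_eq_one_right (by
        rw [← pow_succ', Nat.sub_add_cancel (orderOf_pos g), pow_orderOf_eq_one])]
      exact pow_mem hg _ }

theorem mem_rad {k : ℕ} {p : V} (hp : IsPk k p) {g : Cfsg.SU n F 2} :
    g ∈ rad hF k hp ↔ ∃ a s, SupFrom (2 * k + 2) a ∧ s + s ^ 2 + hh a a = 0 ∧ IsEich g p a s := Iff.rfl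

theorem rad_le_fix {k : ℕ} {p : V} (hp : IsPk k p) : rad hF k hp ≤ fixFirst (2 * k) := by
  rintro g ⟨a, s, ha, -, hg⟩ i hi
  obtain ⟨h, rfl⟩ := hp
  rw [hg, hh_add_right hF, hh_coord hF, hh_coord hF, single_hh hF, ha i (by omega),
    Pi.single_eq_of_ne (fun e => by rw [← e] at hi; simp at hi),
    Pi.single_eq_of_ne (fun e => by rw [← e] at hi; simp at hi)]
  simp

theorem rad_le_perpGp (hn : 4 ≤ n) {k : ℕ} {p : V} (hp : IsPk k p) : rad hF k hp ≤ perpGp hF p :=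
  fun g ⟨a, s, ha, hs, hg⟩ => eichIn_all hF hn (hp.pt hF) (hp.perp hF ha) s g hs hg

theorem rad_apply_first {k : ℕ} {p : V} (hp : IsPk k p) {g : Cfsg.SU n F 2} {a : V} {s : F}
    (ha : SupFrom (2 * k + 2) a) (hg : IsEich g p a s) (h : 2 * k < n) :
    suMat g *ᵥ Pi.single ⟨2 * k, h⟩ 1 = Pi.single ⟨2 * k, h⟩ 1 + a + s • p := by
  have e1 : hh (Pi.single ⟨2 * k, h⟩ 1) p = 1 := by
    obtain ⟨h', rfl⟩ := hp
    rw [hh_add_right hF, hh_coord hF, hh_coord hF]
    simp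
  rw [hg, e1, one_smul, mul_one, single_hh hF, ha _ (by simp)]
  simp

theorem rad_disjoint {k : ℕ} {p : V} (hp : IsPk k p) {g : Cfsg.SU n F 2} (h1 : g ∈ rad hF k hp)
    (h2 : g ∈ fixFirst (2 * k + 2)) : g = 1 := by
  obtain ⟨a, s, ha, -, hg⟩ := h1
  obtain ⟨h, hpe⟩ := hp
  have e := rad_apply_first hF ⟨h, hpe⟩ ha hg (by omega)
  rw [h2 _ (by simp), add_assoc, left_eq_add] at e
  have hs : s = 0 := by
    have := congrFun e ⟨2 * k + 1, h⟩
    rw [Pi.add_apply, ha _ (by simp), hpe] at this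
    simpa using this
  subst hs
  rw [zero_smul, add_zero] at e
  subst e
  exact IsEich.unique hF hg (IsEich.one hF)

theorem rad_conj {k : ℕ} {p : V} (hp : IsPk k p) {c : Cfsg.SU n F 2} (hc : c ∈ fixFirst (2 * k + 2))
    {g : Cfsg.SU n F 2} (hg : g ∈ rad hF k hp) : c * g * c⁻¹ ∈ rad hF k hp := by
  obtain ⟨a, s, ha, hs, hg⟩ := hg
  refine ⟨suMat c *ᵥ a, s, supFrom_image hF hc ha, by rw [su_preserves]; exact hs, ?_⟩
  have := IsEich.conj hF hg c
  rwa [hp.fixed hF hc] at this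

theorem rad_isPGroup {k : ℕ} {p : V} (hp : IsPk k p) : IsPGroup 2 (rad hF k hp) := by
  rintro ⟨g, hg⟩
  refine ⟨2, Subtype.ext ?_⟩
  obtain ⟨a, s, ha, hs, h⟩ := hg
  have hap := hp.perp hF ha
  have h2 := IsEich.mul hF (hp.pt hF).2 hap hap h h
  have h4 := IsEich.mul hF (hp.pt hF).2 (by rw [herm_add_left, hap, add_zero]) (by rw [herm_add_left, hap, add_zero]) h2 h2
  show g ^ (2 ^ 2) = 1
  rw [show g ^ (2 ^ 2) = g * g * (g * g) by simp [pow_succ, mul_assoc]]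
  refine IsEich.unique hF ?_ (IsEich.one hF (p := p))
  convert h4 using 1
  · exact funext fun i => by simp [CharTwo.add_self_eq_zero]
  · rw [CharTwo.add_self_eq_zero (s + s + hh a a), zero_add,
      show (a + a : V) = 0 from funext fun i => CharTwo.add_self_eq_zero (a i), hh_zero_left hF]

theorem rad_card {k : ℕ} {p : V} (hp : IsPk k p) :
    2 ^ (2 * (n - (2 * k + 2)) + 1) ∣ Nat.card (rad hF k hp) := by
  obtain ⟨h, hpe⟩ := id hp
  obtain ⟨j, hj⟩ := IsPGroup.iff_card.1 (rad_isPGroup hF hp)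
  set m := n - (2 * k + 2) with hm
  let ext : (Fin m → F) → V := fun f i => if hi : 2 * k + 2 ≤ (i : ℕ) then f ⟨i - (2 * k + 2), by omega⟩ else 0
  have hext : ∀ f, SupFrom (2 * k + 2) (ext f) := fun f i hi => dif_neg (by omega)
  have hroot : ∀ f, ∃ s : F, s + s ^ 2 + hh (ext f) (ext f) = 0 := fun f => exists_root hF (herm_self_fixed hF _)
  choose root hroot using hroot
  have hs : ∀ (f) (b : Fin 2), (root f + (b : ℕ)) + (root f + (b : ℕ)) ^ 2 + hh (ext f) (ext f) = 0 := by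
    intro f b
    fin_cases b
    · simpa using hroot f
    · simp only [Nat.cast_one]
      linear_combination hroot f + (root f + 1) * (CharTwo.two_eq_zero (R := F))
  choose el hel using fun x : (Fin m → F) × Fin 2 =>
    exists_isEich hF (hp.pt hF).2 (hp.perp hF (hext x.1)) (hs x.1 x.2)
  let φ : (Fin m → F) × Fin 2 → rad hF k hp := fun x => ⟨el x, _, _, hext x.1, hs x.1 x.2, hel x⟩
  have hφ : Function.Injective φ := by
    rintro ⟨f, b⟩ ⟨f', b'⟩ e
    have e' : el (f, b) = el (f', b') := congrArg Subtype.val e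
    have e1 := rad_apply_first hF hp (hext f) (hel (f, b)) (by omega)
    rw [e', rad_apply_first hF hp (hext f') (hel (f', b')) (by omega), add_assoc, add_assoc, add_right_inj] at e1
    have hf : f = f' := funext fun i => by
      have := congrFun e1 ⟨i + (2 * k + 2), by omega⟩
      simp only [Pi.add_apply, Pi.smul_apply, hpe] at this
      simp [ext, Fin.ext_iff, show (i : ℕ) + (2 * k + 2) ≠ 2 * k from by omega,
        show (i : ℕ) + (2 * k + 2) ≠ 2 * k + 1 from by omega] at this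
      exact this.symm
    subst hf
    have := congrFun e1 ⟨2 * k + 1, h⟩
    simp only [Pi.add_apply, Pi.smul_apply, hpe] at this
    simp [ext, Fin.ext_iff] at this
    refine Prod.ext rfl ?_
    fin_cases b <;> fin_cases b' <;> simp_all
  have hcard := Nat.card_le_card_of_injective φ hφ
  rw [Nat.card_prod, Nat.card_fun, Nat.card_fin, hF, hj, Nat.card_fin, ← pow_mul, ← pow_succ] at hcard
  rw [hj]
  exact pow_dvd_pow 2 ((Nat.pow_le_pow_iff_right (by norm_num)).1 hcard)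

omit hF in
theorem mem_sup_normalized {P : Type*} [Group P] {A B : Subgroup P} (hB : B ≤ Subgroup.normalizer (A : Set P))
    {x : P} (hx : x ∈ A ⊔ B) : ∃ a ∈ A, ∃ b ∈ B, a * b = x := by
  rw [sup_comm, ← SetLike.mem_coe, Subgroup.coe_mul_of_left_le_normalizer_right B A hB] at hx
  obtain ⟨b, hb, a, ha, rfl⟩ := Set.mem_mul.1 hx
  exact ⟨b * a * b⁻¹, (Subgroup.mem_normalizer_iff.1 (hB hb) a).1 ha, b, hb, inv_mul_cancel_right _ _⟩

omit hF in
theorem map_sup_card {P : Type*} [Group P] [Finite P] {A B : Subgroup P} (hn : ∀ b ∈ B, ∀ a ∈ A, b * a * b⁻¹ ∈ A)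
    (hd : ∀ x ∈ A, x ∈ B → x = 1) : Nat.card ↥(A ⊔ B) = Nat.card A * Nat.card B := by
  have hB : B ≤ Subgroup.normalizer (A : Set P) := fun b hb => by
    refine Subgroup.mem_normalizer_iff.2 fun a => ⟨hn b hb a, fun ha => ?_⟩
    have := hn b⁻¹ (inv_mem hb) _ ha
    rwa [show b⁻¹ * (b * a * b⁻¹) * b⁻¹⁻¹ = a by group] at this
  rw [← Nat.card_prod]
  refine (Nat.card_congr (Equiv.ofBijective
    (fun x : A × B => (⟨x.1 * x.2, mul_mem (Subgroup.mem_sup_left x.1.2) (Subgroup.mem_sup_right x.2.2)⟩ :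
      ↥(A ⊔ B))) ⟨?_, ?_⟩)).symm
  · rintro ⟨a, b⟩ ⟨a', b'⟩ e
    have e' : (a : P) * b = a' * b' := congrArg Subtype.val e
    have h1 : (a' : P)⁻¹ * a = b' * (b : P)⁻¹ := by rw [eq_mul_inv_iff_mul_eq, mul_assoc, e', inv_mul_cancel_left]
    have h2 := hd _ (mul_mem (inv_mem a'.2) a.2) (h1 ▸ mul_mem b'.2 (inv_mem b.2))
    have ha : a = a' := Subtype.ext (inv_mul_eq_one.1 h2).symm
    subst ha
    exact Prod.ext rfl (Subtype.ext (mul_left_cancel e'))
  · rintro ⟨x, hx⟩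
    obtain ⟨a, ha, b, hb, rfl⟩ := mem_sup_normalized hB hx
    exact ⟨(⟨a, ha⟩, ⟨b, hb⟩), rfl⟩

variable {G : Type*} [Group G] [Finite G] {D : Set G} {π : G →* Cfsg.SU n F 2}

/-- The lifting of a Sylow 2-subgroup: one step. -/
theorem lift_step (hn : 4 ≤ n) (S : Setting D (Tset hF) π) {k : ℕ} {p : V} (hp : IsPk k p) {N : Subgroup G}
    (hN : R D π (tv hF p) ⊓ π.ker ≤ N) {X : Subgroup G} (hX : X ⊓ π.ker ≤ N)
    (hXf : X.map π ≤ fixFirst (2 * k + 2)) :
    ∃ X' : Subgroup G, X' ⊓ π.ker ≤ N ∧ X'.map π ≤ fixFirst (2 * k) ∧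
      Nat.card (X'.map π) = Nat.card (rad hF k hp) * Nat.card (X.map π) := by
  set Y := R D π (tv hF p) ⊓ (rad hF k hp).comap π with hY
  have hYmap : Y.map π = rad hF k hp := by
    refine le_antisymm (Subgroup.map_le_iff_le_comap.2 inf_le_right) fun g hg => ?_
    have hle : perpGp hF p ≤ (R D π (tv hF p)).map π := by
      rw [perpGp, Subgroup.closure_le]
      rintro x ⟨hx, hc⟩
      obtain ⟨f, hf, rfl⟩ := S.exists_member hx
      exact ⟨f, Subgroup.subset_closure ⟨hf, hc⟩, rfl⟩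
    obtain ⟨y, hy, rfl⟩ := hle (rad_le_perpGp hF hn hp hg)
    exact ⟨y, ⟨hy, hg⟩, rfl⟩
  have hconj : ∀ x ∈ X, ∀ y ∈ Y, x * y * x⁻¹ ∈ Y := by
    intro x hx y hy
    have hf : π x ∈ fixFirst (2 * k + 2) := hXf ⟨x, hx, rfl⟩
    refine ⟨?_, ?_⟩
    · have hfix : π x * tv hF p * (π x)⁻¹ = tv hF p := by
        rw [tv_conj hF (π x) (hp.pt hF).2, hp.fixed hF hf]
      have : (R D π (tv hF p)).map (MulAut.conj x).toMonoidHom ≤ R D π (tv hF p) := by
        rw [R, MonoidHom.map_closure, Subgroup.closure_le]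
        rintro _ ⟨f, hf', rfl⟩
        refine Subgroup.subset_closure ⟨S.conj_mem x hf'.1, ?_⟩
        rw [← hfix]
        show Commute (π (x * f * x⁻¹)) _
        rw [map_mul, map_mul, map_inv]
        exact hf'.2.map (MulAut.conj (π x)).toMonoidHom
      exact this ⟨y, hy.1, rfl⟩
    · show π (x * y * x⁻¹) ∈ rad hF k hp
      rw [map_mul, map_mul, map_inv]
      exact rad_conj hF hp hf hy.2
  have hXY : X ≤ Subgroup.normalizer (Y : Set G) := fun x hx => by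
    refine Subgroup.mem_normalizer_iff.2 fun y => ⟨hconj x hx y, fun hy => ?_⟩
    have := hconj x⁻¹ (inv_mem hx) _ hy
    rwa [show x⁻¹ * (x * y * x⁻¹) * x⁻¹⁻¹ = y by group] at this
  refine ⟨Y ⊔ X, ?_, ?_, ?_⟩
  · rintro z ⟨hz, hzk⟩
    obtain ⟨y, hy, x, hx, rfl⟩ := mem_sup_normalized hXY hz
    have e : π y = (π x)⁻¹ := eq_inv_of_mul_eq_one_left (by rw [← map_mul]; exact hzk)
    have hy1 : π y = 1 := rad_disjoint hF hp hy.2 (e ▸ inv_mem (hXf ⟨x, hx, rfl⟩))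
    exact mul_mem (hN ⟨hy.1, hy1⟩) (hX ⟨hx, inv_eq_one.1 (e.symm.trans hy1)⟩)
  · rw [Subgroup.map_sup, hYmap]
    refine sup_le (rad_le_fix hF hp) (hXf.trans ?_)
    exact fun g hg i hi => hg i (by omega)
  · rw [Subgroup.map_sup, hYmap]
    exact map_sup_card (fun b hb a ha => rad_conj hF hp (hXf hb) ha)
      fun g hg hg' => rad_disjoint hF hp hg (hXf hg')

theorem two_pow_card (hn : n = 5 ∨ n = 7) : ¬ 2 ^ (n * (n - 1) / 2 + 1) ∣ Nat.card (Cfsg.SU n F 2) := by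
  intro h
  have h1 := card_SU_mul (F := F) hF (n := n) (by omega)
  rw [card_GU hF] at h1
  have h2 : 2 ^ (n * (n - 1) / 2 + 1) ∣ (2 + 1) * Nat.card (Cfsg.SU n F 2) := Dvd.dvd.mul_left h _
  rw [h1] at h2
  rcases hn with rfl | rfl <;> norm_num [Finset.prod_range_succ, Nat.even_iff] at h2

theorem lift_sylow (hn : n = 5 ∨ n = 7) (S : Setting D (Tset hF) π) (N : Subgroup G)
    (hN : ∀ t ∈ Tset hF, R D π t ⊓ π.ker ≤ N) :
    ∃ X : Subgroup G, X ⊓ π.ker ≤ N ∧ ¬ 2 ∣ (π.ker ⊔ X).index := by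
  have hn4 : 4 ≤ n := by omega
  have step : ∀ k, 2 * k + 1 < n → ∀ X : Subgroup G, X ⊓ π.ker ≤ N → X.map π ≤ fixFirst (2 * k + 2) →
      ∀ e, 2 ^ e ∣ Nat.card (X.map π) → ∃ X' : Subgroup G, X' ⊓ π.ker ≤ N ∧ X'.map π ≤ fixFirst (2 * k) ∧
        2 ^ ((2 * (n - (2 * k + 2)) + 1) + e) ∣ Nat.card (X'.map π) := by
    intro k hk X hX hXf e he
    have hp : IsPk k (Pi.single ⟨2 * k, by omega⟩ 1 + Pi.single ⟨2 * k + 1, hk⟩ 1 : V) := ⟨hk, rfl⟩
    obtain ⟨X', h1, h2, h3⟩ := lift_step hF hn4 S hp (hN _ ⟨_, hp.pt hF, rfl⟩) hX hXf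
    exact ⟨X', h1, h2, by rw [h3, pow_add]; exact mul_dvd_mul (rad_card hF hp) he⟩
  have fin : ∀ X : Subgroup G, X ⊓ π.ker ≤ N → 2 ^ (n * (n - 1) / 2) ∣ Nat.card (X.map π) →
      X ⊓ π.ker ≤ N ∧ ¬ 2 ∣ (π.ker ⊔ X).index := by
    refine fun X hX hc => ⟨hX, fun h => two_pow_card hF hn ?_⟩
    have hi : (X.map π).index = (π.ker ⊔ X).index := by
      rw [Subgroup.index_map, MonoidHom.range_eq_top.2 S.surj, Subgroup.index_top, mul_one, sup_comm]
    rw [← Subgroup.card_mul_index (X.map π), hi, pow_succ]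
    exact mul_dvd_mul hc h
  have bot : ∀ m, (⊥ : Subgroup G) ⊓ π.ker ≤ N ∧ (⊥ : Subgroup G).map π ≤ fixFirst m ∧
      2 ^ 0 ∣ Nat.card ((⊥ : Subgroup G).map π) := fun m => ⟨by simp, by simp, by simp⟩
  rcases hn with rfl | rfl
  · obtain ⟨X1, a1, b1, c1⟩ := step 1 (by norm_num) ⊥ (bot 4).1 (bot 4).2.1 0 (bot 4).2.2
    obtain ⟨X0, a0, b0, c0⟩ := step 0 (by norm_num) X1 a1 b1 _ c1
    exact ⟨X0, fin X0 a0 c0⟩
  · obtain ⟨X2, a2, b2, c2⟩ := step 2 (by norm_num) ⊥ (bot 6).1 (bot 6).2.1 0 (bot 6).2.2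
    obtain ⟨X1, a1, b1, c1⟩ := step 1 (by norm_num) X2 a2 b2 _ c2
    obtain ⟨X0, a0, b0, c0⟩ := step 0 (by norm_num) X1 a1 b1 _ c1
    exact ⟨X0, fin X0 a0 c0⟩

end CfsgLib.TwoRad
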