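import Cfsg.Agent.TwoRadical.Class
import Cfsg.Agent.TwoRadical.Sylow
import Cfsg.Agent.TwoRadical.Kernel
import Cfsg.Agent.Solvable.Basics
import Cfsg.Prelude.Def_Transfer

/-!
A 3-transposition group with trivial centre whose quotient by the 2-core is `SU₅(2)` or `SU₇(2)` has elementary
abelian 2-core.
-/

set_option autoImplicit false
set_option linter.unusedSectionVars false
set_option linter.style.haveILetI false

namespace CfsgLib.TwoRad

open Matrix CfsgLib.Unitary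

variable {F : Type} [Field F] [Finite F] [CharP F 2] {n : ℕ} (hF : Nat.card F = 2 ^ 2)
  {G : Type*} [Group G] [Finite G] {D : Set G}

include hF

theorem tv_ne_one {p : Fin n → F} (hp : Pt p) : tv hF p ≠ 1 := by
  intro e
  refine hp.1 (funext fun i => ?_)
  have h := tv_apply hF hp.2 (Pi.single i (1 : F))
  rw [e, suMat_one, Matrix.one_mulVec, left_eq_add, single_hh hF, smul_eq_zero] at h
  exact h.elim (fun h => pow_eq_zero_iff (two_ne_zero) |>.1 h) fun h => absurd h hp.1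

theorem exists_setting (hn : n = 5 ∨ n = 7) (hD : Cfsg.IsThreeTranspositionClass D)
    (hZ : Subgroup.center G = ⊥) (e : G ⧸ Cfsg.pCore 2 G ≃* Cfsg.SU n F 2) :
    ∃ π : G →* Cfsg.SU n F 2, π.ker = Cfsg.pCore 2 G ∧ Setting D (Tset hF) π := by
  haveI : (Cfsg.pCore 2 G).Normal := CfsgLib.Solvable.pCore_normal 2
  set π : G →* Cfsg.SU n F 2 := e.toMonoidHom.comp (QuotientGroup.mk' (Cfsg.pCore 2 G)) with hπ
  have hker : π.ker = Cfsg.pCore 2 G := by
    ext x
    simp [π, MonoidHom.mem_ker]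
  have hsurj : Function.Surjective π := e.surjective.comp (QuotientGroup.mk'_surjective _)
  obtain ⟨d₀, hd₀, hDeq⟩ := hD.2.1
  have hconj : ∀ d ∈ D, ∀ g : G, g * d * g⁻¹ ∈ D := fun d hd g => by
    rw [hDeq, conjugatesOf, Set.mem_setOf_eq] at hd ⊢
    exact hd.trans (isConj_iff.2 ⟨g, rfl⟩)
  have hn4 : 4 ≤ n := by omega
  have himg : ∀ d ∈ D, π d ∈ Tset hF := by
    intro d hd
    have hd2 : π d * π d = 1 := by rw [← map_mul, CfsgLib.ThreeT.sq hD.1 hd, map_one]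
    refine mem_Tset_of_products hF hn hd2 (fun h1 => ?_) fun c => ?_
    · have : π.ker = ⊤ := by
        rw [eq_top_iff, ← hD.2.2, Subgroup.closure_le]
        intro f hf
        rw [hDeq, conjugatesOf, Set.mem_setOf_eq] at hd hf
        obtain ⟨g, rfl⟩ := isConj_iff.1 (hd.symm.trans hf)
        simp [h1]
      obtain ⟨g, hg⟩ := hsurj (tv hF (pStd hn4 : Fin n → F))
      exact tv_ne_one hF (pt_pStd hF hn4) (hg ▸ (this.ge (Subgroup.mem_top g) : π g = 1))
    · obtain ⟨g, rfl⟩ := hsurj c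
      rw [← map_inv, ← map_mul, ← map_mul, ← map_mul, ← map_pow, ← map_pow]
      exact (hD.1.2 d hd _ (hconj d hd g)).imp (fun h => by rw [h, map_one]) fun h => by rw [h, map_one]
  refine ⟨π, hker, ⟨hD, hZ, hsurj, hker ▸ CfsgLib.Solvable.isPGroup_pCore 2, ?_, fun s hs t ht hst H h =>
    perps_generate hF hn4 hs ht hst H h⟩⟩
  refine Set.Subset.antisymm (by rintro _ ⟨d, hd, rfl⟩; exact himg d hd) fun t ht => ?_
  obtain ⟨c, hc⟩ := Tset_conj hF (by omega) (himg d₀ hd₀) ht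
  obtain ⟨g, rfl⟩ := hsurj c
  exact ⟨g * d₀ * g⁻¹, hconj d₀ hd₀ g, by rw [map_mul, map_mul, map_inv, hc]⟩

theorem Setting.elementary_of_SU {π : G →* Cfsg.SU n F 2} (S : Setting D (Tset hF) π) (hn : n = 5 ∨ n = 7) :
    (∀ o ∈ π.ker, o * o = 1) ∧ ∀ o ∈ π.ker, ∀ o' ∈ π.ker, Commute o o' := by
  have hn4 : 4 ≤ n := by omega
  obtain ⟨l, hl, hlen, hprod⟩ := five_relation hF hn4
  have hlift : ∀ l' : List (Cfsg.SU n F 2), (∀ x ∈ l', x ∈ Tset hF ∧ Commute x (tv hF (pStd hn4 : Fin n → F))) →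
      ∃ m : List G, (∀ f ∈ m, f ∈ D ∧ Commute (π f) (tv hF (pStd hn4 : Fin n → F))) ∧ m.map π = l' := by
    intro l'
    induction l' with
    | nil => exact fun _ => ⟨[], by simp, rfl⟩
    | cons x l' ih =>
      intro hx
      obtain ⟨m, hm, rfl⟩ := ih fun y hy => hx y (List.mem_cons_of_mem _ hy)
      obtain ⟨hxT, hxc⟩ := hx x List.mem_cons_self
      obtain ⟨f, hf, rfl⟩ := S.exists_member hxT
      exact ⟨f :: m, List.forall_mem_cons.2 ⟨⟨hf, hxc⟩, hm⟩, rfl⟩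
  obtain ⟨m, hm, rfl⟩ := hlift l hl
  exact S.kernel_elementary (fun s hs t ht => Tset_conj hF (by omega) hs ht)
    (fun N _ hN => lift_sylow hF hn S N hN) ⟨_, pt_pStd hF hn4, rfl⟩
    ⟨m, hm, by simpa using hlen, by rw [map_list_prod, hprod]⟩

omit hF in
theorem isElementaryAbelian_of {H : Subgroup G}
    (h : (∀ o ∈ H, o * o = 1) ∧ ∀ o ∈ H, ∀ o' ∈ H, Commute o o') : Cfsg.IsElementaryAbelian 2 H :=
  ⟨⟨⟨fun a b => Subtype.ext (h.2 a a.2 b b.2)⟩⟩, fun a ha => by rw [pow_two]; exact h.1 a ha⟩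

end CfsgLib.TwoRad
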