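import Cfsg.Agent.TwoRadical.Points

/-!
An involution of `SU₅(2)` or `SU₇(2)` all whose products with conjugates have order at most three is a
transvection.
-/

set_option autoImplicit false
set_option linter.unusedSectionVars false
set_option linter.style.haveILetI false

namespace CfsgLib.TwoRad

open Matrix CfsgLib.Unitary

variable {F : Type} [Field F] [Finite F] [CharP F 2] {n : ℕ} (hF : Nat.card F = 2 ^ 2)

local notation "V" => Fin n → F
local notation "hh" => Cfsg.hermForm n F 2

/-- The sum of two basis vectors. -/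
def pairVec (ij : Fin n × Fin n) : V := Pi.single ij.1 1 + Pi.single ij.2 1

/-- A product of transvections at sums of two basis vectors. -/
noncomputable def swaps (L : List (Fin n × Fin n)) : Cfsg.SU n F 2 :=
  (L.map fun ij => tv hF (pairVec ij)).prod

include hF

theorem pairVec_iso {ij : Fin n × Fin n} (h : ij.1 ≠ ij.2) : hh (pairVec ij) (pairVec ij) = 0 := by
  simp only [pairVec]
  rw [hh_add_right hF, hh_single hF, hh_single hF]
  simp [h, h.symm, CharTwo.add_self_eq_zero]

theorem tv_single {i j : Fin n} (h : i ≠ j) (k : Fin n) :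
    suMat (tv hF (pairVec (i, j))) *ᵥ Pi.single k (1 : F) = Pi.single (Equiv.swap i j k) (1 : F) := by
  rw [tv_apply hF (pairVec_iso hF (ij := (i, j)) h)]
  simp only [pairVec]
  rw [hh_add_right hF, hh_single hF, hh_single hF]
  refine funext fun l => ?_
  rcases eq_or_ne k i with rfl | hki
  · rw [Equiv.swap_apply_left]
    simp only [Pi.add_apply, Pi.smul_apply, Pi.single_apply, smul_eq_mul, h.symm, if_false, if_true]
    by_cases hl : l = k
    · subst hl; simp [h, CharTwo.add_self_eq_zero]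
    · simp [hl]
  rcases eq_or_ne k j with rfl | hkj
  · rw [Equiv.swap_apply_right]
    simp only [Pi.add_apply, Pi.smul_apply, Pi.single_apply, smul_eq_mul, h, if_false, if_true]
    by_cases hl : l = i
    · subst hl; simp [h]
    · by_cases hl' : l = k
      · subst hl'
        simp [hl, h, Ne.symm h, ← add_assoc]
        rw [CharTwo.add_self_eq_zero]
      · simp [hl, hl', CharTwo.add_self_eq_zero]
  · rw [Equiv.swap_apply_of_ne_of_ne hki hkj]
    simp [Pi.single_apply, Ne.symm hki, Ne.symm hkj]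

theorem swaps_single (L : List (Fin n × Fin n)) (hL : ∀ ij ∈ L, ij.1 ≠ ij.2) (k : Fin n) :
    suMat (swaps hF L) *ᵥ Pi.single k (1 : F) =
      Pi.single ((L.map fun ij => Equiv.swap ij.1 ij.2).prod k) (1 : F) := by
  induction L with
  | nil => rw [show swaps hF ([] : List (Fin n × Fin n)) = 1 from rfl, suMat_one, Matrix.one_mulVec]; rfl
  | cons ij L ih =>
    have e : swaps hF (ij :: L) = tv hF (pairVec ij) * swaps hF L := by simp [swaps]
    rw [e, suMat_mul, ← Matrix.mulVec_mulVec, ih fun x hx => hL x (List.mem_cons_of_mem _ hx),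
      List.map_cons, List.prod_cons, Equiv.Perm.mul_apply]
    exact tv_single hF (hL ij List.mem_cons_self) _

theorem hh_pairVec (x : V) (ij : Fin n × Fin n) : hh x (pairVec ij) = x ij.1 + x ij.2 := by
  simp only [pairVec]
  rw [hh_add_right hF, hh_single hF, hh_single hF]
  simp

theorem swaps_apply (L : List (Fin n × Fin n)) (hL : ∀ ij ∈ L, ij.1 ≠ ij.2)
    (hdis : L.Pairwise fun a b => a.1 ≠ b.1 ∧ a.1 ≠ b.2 ∧ a.2 ≠ b.1 ∧ a.2 ≠ b.2) (x : V) :
    suMat (swaps hF L) *ᵥ x = x + (L.map fun ij => hh x (pairVec ij) • (pairVec ij : V)).sum := by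
  induction L with
  | nil => simp [swaps, suMat_one]
  | cons ij L ih =>
    obtain ⟨h1, h2⟩ := List.pairwise_cons.1 hdis
    have e : swaps hF (ij :: L) = tv hF (pairVec ij) * swaps hF L := by simp [swaps]
    have hz : ∀ L' : List (Fin n × Fin n), (∀ b ∈ L', ij.1 ≠ b.1 ∧ ij.1 ≠ b.2 ∧ ij.2 ≠ b.1 ∧ ij.2 ≠ b.2) →
        hh (L'.map fun b => hh x (pairVec b) • (pairVec b : V)).sum (pairVec ij) = 0 := by
      intro L'
      induction L' with
      | nil => intro _; simpa using hh_zero_left hF (pairVec ij)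
      | cons b L' ih' =>
        intro hb
        obtain ⟨a1, a2, a3, a4⟩ := hb b List.mem_cons_self
        rw [List.map_cons, List.sum_cons, herm_add_left, ih' fun c hc => hb c (List.mem_cons_of_mem _ hc),
          herm_smul_left, hh_pairVec hF (pairVec b) ij]
        simp [pairVec, a1, a2, a3, a4]
    rw [e, suMat_mul, ← Matrix.mulVec_mulVec, ih (fun y hy => hL y (List.mem_cons_of_mem _ hy)) h2,
      tv_apply hF (pairVec_iso hF (hL ij List.mem_cons_self)), herm_add_left, hz L h1, add_zero,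
      List.map_cons, List.sum_cons, add_assoc, add_comm ((L.map _).sum)]

theorem swaps_facts (L : List (Fin n × Fin n)) (hL : ∀ ij ∈ L, ij.1 ≠ ij.2)
    (hdis : L.Pairwise fun a b => a.1 ≠ b.1 ∧ a.1 ≠ b.2 ∧ a.2 ≠ b.1 ∧ a.2 ≠ b.2) :
    swaps hF L * swaps hF L = 1 ∧ (suMat (swaps hF L) - 1).rank = L.length := by
  classical
  have hdisj : ∀ k l : Fin L.length, k ≠ l → L[k].1 ≠ L[l].1 ∧ L[k].1 ≠ L[l].2 ∧ L[k].2 ≠ L[l].1 ∧ L[k].2 ≠ L[l].2 := by
    intro k l hkl
    rcases lt_or_gt_of_ne hkl with h | h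
    · exact List.pairwise_iff_getElem.1 hdis k l k.2 l.2 h
    · obtain ⟨a, b, c, d⟩ := List.pairwise_iff_getElem.1 hdis l k l.2 k.2 h
      exact ⟨Ne.symm a, Ne.symm c, Ne.symm b, Ne.symm d⟩
  set f : Fin L.length → V := fun k => pairVec L[k] with hf
  have hsum : ∀ x : V, suMat (swaps hF L) *ᵥ x = x + ∑ k, hh x (f k) • f k := fun x => by
    rw [swaps_apply hF L hL hdis x]
    congr 1
    rw [← List.sum_ofFn]
    congr 1
    refine List.ext_getElem (by simp) fun k h1 h2 => ?_
    simp [f]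
  have hff : ∀ k l, hh (f k) (f l) = 0 := by
    intro k l
    rcases eq_or_ne k l with rfl | hkl
    · exact pairVec_iso hF (hL _ (List.getElem_mem k.2))
    · obtain ⟨a1, a2, a3, a4⟩ := hdisj k l hkl
      simp only [Fin.getElem_fin] at a1 a2 a3 a4
      simp only [f, Fin.getElem_fin]
      rw [hh_pairVec hF]
      simp only [pairVec]
      simp [Ne.symm a1, Ne.symm a2, Ne.symm a3, Ne.symm a4]
  refine ⟨su_ext fun x => ?_, ?_⟩
  · rw [suMat_mul, ← Matrix.mulVec_mulVec, hsum, hsum, suMat_one, Matrix.one_mulVec]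
    have h0 : ∀ l, hh (x + ∑ k, hh x (f k) • f k) (f l) = hh x (f l) := fun l => by
      rw [herm_add_left, add_eq_left,
        show hh (∑ k, hh x (f k) • f k) (f l) = ∑ k, hh (hh x (f k) • f k) (f l) from
          map_sum (AddMonoidHom.mk' (fun v => hh v (f l)) fun a b => herm_add_left n a b _) _ _]
      simp [herm_smul_left, hff]
    simp only [h0]
    refine funext fun i => ?_
    simp [add_assoc, CharTwo.add_self_eq_zero]
  · have hN : ∀ x, Matrix.mulVecLin (suMat (swaps hF L) - 1) x = ∑ k, hh x (f k) • f k := fun x => by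
      rw [Matrix.mulVecLin_apply, Matrix.sub_mulVec, Matrix.one_mulVec, hsum, add_sub_cancel_left]
    have hdual : ∀ k l, hh (Pi.single L[l].1 (1 : F)) (f k) = if l = k then 1 else 0 := by
      intro k l
      simp only [f, Fin.getElem_fin]
      rw [hh_pairVec hF]
      rcases eq_or_ne l k with rfl | hlk
      · simp [(hL _ (List.getElem_mem l.2)).symm]
      · obtain ⟨a1, a2, -, -⟩ := hdisj l k hlk
        simp only [Fin.getElem_fin] at a1 a2
        simp [hlk, Ne.symm a1, Ne.symm a2]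
    have hli : LinearIndependent F f := by
      rw [Fintype.linearIndependent_iff]
      intro g hg k
      have h := congrArg (fun v => hh (Pi.single L[k].1 (1 : F)) v) hg
      simp only [hh_zero_right hF] at h
      rw [show hh (Pi.single L[k].1 (1 : F)) (∑ i, g i • f i) = ∑ i, hh (Pi.single L[k].1 (1 : F)) (g i • f i) from
          map_sum (AddMonoidHom.mk' (fun v => hh (Pi.single L[k].1 (1 : F)) v) fun a b => herm_add_right hF _ a b) _ _] at h
      simp only [hh_smul_right hF, hdual, mul_ite, mul_one, mul_zero, Finset.sum_ite_eq, Finset.mem_univ, if_true] at h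
      exact pow_eq_zero_iff (two_ne_zero) |>.1 h
    rw [Matrix.rank]
    have hrange : LinearMap.range (Matrix.mulVecLin (suMat (swaps hF L) - 1)) = Submodule.span F (Set.range f) := by
      refine le_antisymm ?_ (Submodule.span_le.2 ?_)
      · rintro _ ⟨x, rfl⟩
        rw [hN]
        exact Submodule.sum_mem _ fun k _ => Submodule.smul_mem _ _ (Submodule.subset_span ⟨k, rfl⟩)
      · rintro _ ⟨l, rfl⟩
        refine ⟨Pi.single L[l].1 (1 : F), ?_⟩
        rw [hN]
        simp only [hdual, ite_smul, one_smul, zero_smul, Finset.sum_ite_eq, Finset.mem_univ, if_true]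
    rw [hrange, finrank_span_eq_card hli, Fintype.card_fin]

theorem pair_bad {L M : List (Fin n × Fin n)} (hL : ∀ ij ∈ L, ij.1 ≠ ij.2) (hM : ∀ ij ∈ M, ij.1 ≠ ij.2) (k : Fin n)
    (h1 : (((L ++ M) ++ (L ++ M)).map fun ij => Equiv.swap ij.1 ij.2).prod k ≠ k)
    (h2 : (((L ++ M) ++ (L ++ M) ++ (L ++ M)).map fun ij => Equiv.swap ij.1 ij.2).prod k ≠ k) :
    (swaps hF L * swaps hF M) ^ 2 ≠ 1 ∧ (swaps hF L * swaps hF M) ^ 3 ≠ 1 := by
  have hLM : ∀ ij ∈ L ++ M, ij.1 ≠ ij.2 := fun ij h => (List.mem_append.1 h).elim (hL ij) (hM ij)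
  have e : swaps hF L * swaps hF M = swaps hF (L ++ M) := by simp [swaps]
  have key : ∀ W : List (Fin n × Fin n), (∀ ij ∈ W, ij.1 ≠ ij.2) → swaps hF W = 1 →
      (W.map fun ij => Equiv.swap ij.1 ij.2).prod k = k := fun W hW h => by
    have h' := swaps_single hF W hW k
    rw [h, suMat_one, Matrix.one_mulVec] at h'
    by_contra hne
    have := congrFun h' k
    simp [Pi.single_eq_of_ne (Ne.symm hne)] at this
  refine ⟨fun h => h1 (key _ (fun ij hij => (List.mem_append.1 hij).elim (hLM ij) (hLM ij)) ?_),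
    fun h => h2 (key _ (fun ij hij => (List.mem_append.1 hij).elim
      (fun hij => (List.mem_append.1 hij).elim (hLM ij) (hLM ij)) (hLM ij)) ?_)⟩
  · rw [← h, e]; simp [swaps, pow_two, mul_assoc]
  · rw [← h, e]; simp [swaps, pow_succ, mul_assoc]

theorem mem_Tset_of_products (hn : n = 5 ∨ n = 7) {a : Cfsg.SU n F 2} (ha : a * a = 1) (ha1 : a ≠ 1)
    (h : ∀ c : Cfsg.SU n F 2, (a * (c * a * c⁻¹)) ^ 2 = 1 ∨ (a * (c * a * c⁻¹)) ^ 3 = 1) : a ∈ Tset hF := by
  have hN := CfsgLib.Unitary.Invol.isUDev_of_invol hF ha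
  obtain ⟨e, he⟩ := CfsgLib.Unitary.Invol.exists_fam hF hN
  set r := (suMat a - 1).rank with hr
  have h2r : r + r ≤ n := by
    have := (CfsgLib.Unitary.Invol.linearIndependent_fam hF hN he).fintype_card_le_finrank
    rw [Fintype.card_sum, Fintype.card_fin, Module.finrank_pi, Fintype.card_fin] at this
    exact this
  have hr0 : r ≠ 0 := by
    intro h0
    apply ha1
    rw [hr, Matrix.rank, Submodule.finrank_eq_zero, LinearMap.range_eq_bot] at h0
    refine su_ext fun x => ?_
    have := LinearMap.congr_fun h0 x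
    rw [Matrix.mulVecLin_apply, Matrix.sub_mulVec, Matrix.one_mulVec, LinearMap.zero_apply, sub_eq_zero] at this
    rw [this, suMat_one, Matrix.one_mulVec]
  have key : ∀ L M : List (Fin n × Fin n), (∀ ij ∈ L, ij.1 ≠ ij.2) → (∀ ij ∈ M, ij.1 ≠ ij.2) →
      L.Pairwise (fun a b => a.1 ≠ b.1 ∧ a.1 ≠ b.2 ∧ a.2 ≠ b.1 ∧ a.2 ≠ b.2) →
      M.Pairwise (fun a b => a.1 ≠ b.1 ∧ a.1 ≠ b.2 ∧ a.2 ≠ b.1 ∧ a.2 ≠ b.2) →
      L.length = r → M.length = r → (swaps hF L * swaps hF M) ^ 2 ≠ 1 ∧ (swaps hF L * swaps hF M) ^ 3 ≠ 1 → False := by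
    intro L M hL hM hLd hMd hLl hMl hbad
    obtain ⟨l1, l2⟩ := swaps_facts hF L hL hLd
    obtain ⟨m1, m2⟩ := swaps_facts hF M hM hMd
    obtain ⟨x, hx⟩ := isConj_iff.1 (CfsgLib.Unitary.Invol.isConj_of_rank hF (by omega) ha l1 (by rw [l2, hLl]))
    obtain ⟨y, hy⟩ := isConj_iff.1 (CfsgLib.Unitary.Invol.isConj_of_rank hF (by omega) ha m1 (by rw [m2, hMl]))
    have e : swaps hF L * swaps hF M = x * (a * ((x⁻¹ * y) * a * (x⁻¹ * y)⁻¹)) * x⁻¹ := by rw [← hx, ← hy]; group
    rcases h (x⁻¹ * y) with h' | h'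
    · exact hbad.1 (by rw [e, conj_pow, h', mul_one, mul_inv_cancel])
    · exact hbad.2 (by rw [e, conj_pow, h', mul_one, mul_inv_cancel])
  rcases hn with rfl | rfl
  · have : r = 1 := by
      by_contra hne
      refine key [(0, 1), (2, 3)] [(0, 2), (3, 4)] (by decide) (by decide) (by decide) (by decide) ?_ ?_
        (pair_bad hF (by decide) (by decide) 0 (by decide) (by decide)) <;> simp <;> omega
    obtain ⟨v, c, hv, hc, hvv, hc0, hM⟩ := exists_utv_of_isTransvection hF (g := a) ⟨this, by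
      refine Matrix.ext_iff_smul.mpr fun x => ?_
      rw [Matrix.smul_eq_mulVec, Matrix.smul_eq_mulVec, Matrix.zero_mulVec, ← Matrix.mulVec_mulVec]
      exact hN.sq x⟩
    have hc1 : c = 1 := by
      rcases mul_eq_zero.1 (show c * (1 + c) = 0 by linear_combination hc0) with h0 | h1
      · exact absurd h0 hc
      · exact (CharTwo.add_eq_zero.1 h1).symm
    exact ⟨v, ⟨hv, hvv⟩, su_ext fun x => by rw [tv_apply hF hvv, hM, utv_mulVec, hc1, one_mul]⟩
  · have : r = 1 := by
      by_contra hne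
      rcases (show r = 2 ∨ r = 3 by omega) with h2 | h3
      · refine key [(0, 1), (2, 3)] [(0, 2), (3, 4)] (by decide) (by decide) (by decide) (by decide) ?_ ?_
          (pair_bad hF (by decide) (by decide) 0 (by decide) (by decide)) <;> simp <;> omega
      · refine key [(0, 1), (2, 3), (5, 6)] [(0, 2), (3, 4), (5, 6)] (by decide) (by decide) (by decide) (by decide)
          ?_ ?_ (pair_bad hF (by decide) (by decide) 0 (by decide) (by decide)) <;> simp <;> omega
    obtain ⟨v, c, hv, hc, hvv, hc0, hM⟩ := exists_utv_of_isTransvection hF (g := a) ⟨this, by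
      refine Matrix.ext_iff_smul.mpr fun x => ?_
      rw [Matrix.smul_eq_mulVec, Matrix.smul_eq_mulVec, Matrix.zero_mulVec, ← Matrix.mulVec_mulVec]
      exact hN.sq x⟩
    have hc1 : c = 1 := by
      rcases mul_eq_zero.1 (show c * (1 + c) = 0 by linear_combination hc0) with h0 | h1
      · exact absurd h0 hc
      · exact (CharTwo.add_eq_zero.1 h1).symm
    exact ⟨v, ⟨hv, hvv⟩, su_ext fun x => by rw [tv_apply hF hvv, hM, utv_mulVec, hc1, one_mul]⟩

end CfsgLib.TwoRad
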