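import Cfsg.Agent.TwoRadical.KElem
import Cfsg.Agent.TwoRadical.Basic

/-!
`SU₅(2)` acting on an elementary abelian kernel: the elements of order three attached to vectors of norm one
have no fixed points.
-/

set_option autoImplicit false
set_option linter.unusedSectionVars false
set_option linter.style.haveILetI false

namespace CfsgLib.TwoRad

open Matrix CfsgLib.Unitary

/-- The elements having a lift which commutes with `o`. -/
def stab {G : Type*} [Group G] {Q : Type*} [Group Q] (π : G →* Q) (o : G) : Subgroup Q :=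
  (Subgroup.centralizer ({o} : Set G)).map π

/-- An abelian kernel of exponent two. -/
def ElemKer {G : Type*} [Group G] {Q : Type*} [Group Q] (π : G →* Q) : Prop :=
  (∀ o ∈ π.ker, o * o = 1) ∧ ∀ o ∈ π.ker, ∀ o' ∈ π.ker, Commute o o'

section
variable {G : Type*} [Group G] {Q : Type*} [Group Q] {π : G →* Q}

theorem mem_stab_of {o x : G} (h : Commute x o) : π x ∈ stab π o :=
  ⟨x, Subgroup.mem_centralizer_singleton_iff.2 h.eq, rfl⟩

theorem commute_of_stab (hE : ElemKer π) {o : G} (ho : o ∈ π.ker) {q : Q} (hq : q ∈ stab π o) {x : G}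
    (hx : π x = q) : Commute x o := by
  obtain ⟨y, hy, e⟩ := hq
  have h1 : x * y⁻¹ ∈ π.ker := by rw [MonoidHom.mem_ker, map_mul, map_inv, hx, e, mul_inv_cancel]
  have h2 : Commute y o := Subgroup.mem_centralizer_singleton_iff.1 hy
  have := (hE.2 _ h1 _ ho).mul_left h2
  rwa [inv_mul_cancel_right] at this

theorem stab_conj (hE : ElemKer π) {o : G} (ho : o ∈ π.ker) {q : Q} (hsurj : Function.Surjective π)
    (hq : q ∈ stab π o) (x : G) : π x * q * (π x)⁻¹ ∈ stab π (x * o * x⁻¹) := by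
  obtain ⟨y, rfl⟩ := hsurj q
  rw [← map_inv, ← map_mul, ← map_mul]
  exact mem_stab_of ((commute_of_stab hE ho hq rfl).map (MulAut.conj x).toMonoidHom)

theorem stab_of_commute (hE : ElemKer π) {o : G} (ho : o ∈ π.ker) {q : Q} (hsurj : Function.Surjective π)
    (hq : q ∈ stab π o) {x : G} (hc : Commute (π x) q) : q ∈ stab π (x * o * x⁻¹) := by
  have := stab_conj hE ho hsurj hq x
  rwa [hc.eq, mul_inv_cancel_right] at this

theorem stab_mul (hE : ElemKer π) {o o' : G} (ho : o ∈ π.ker) (ho' : o' ∈ π.ker) {q : Q}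
    (h : q ∈ stab π o) (h' : q ∈ stab π o') : q ∈ stab π (o * o') := by
  obtain ⟨x, hx, rfl⟩ := h
  exact mem_stab_of ((Commute.mul_right (Subgroup.mem_centralizer_singleton_iff.1 hx : Commute x o)
    (commute_of_stab hE ho' h' rfl)))

theorem stab_comm (hE : ElemKer π) {o : G} (ho : o ∈ π.ker) {q : Q} (hsurj : Function.Surjective π)
    (hq : q ∈ stab π o) {x : G} (hc : Commute (π x) q) : q ∈ stab π (x * o * x⁻¹ * o) :=
  stab_mul hE ((MonoidHom.normal_ker π).conj_mem o ho x) ho (stab_of_commute hE ho hsurj hq hc) hq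

end

variable {F : Type} [Field F] [Finite F] [CharP F 2] {hF : Nat.card F = 2 ^ 2}
  {G : Type*} [Group G] [Finite G] {D : Set G} {π : G →* Cfsg.SU 5 F 2}
  (S : Setting D (Tset hF) π) (hE : ElemKer π)

local notation "V" => Fin 5 → F
local notation "hh" => Cfsg.hermForm 5 F 2

include S hE

theorem comm_member {d o : G} (hd : d ∈ D) (ho : o ∈ π.ker) : d * o * d⁻¹ * o ∈ A D π (π d) := by
  have := S.comm_mem_A hd ho
  have e : o⁻¹ = o := inv_eq_of_mul_eq_one_right (hE.1 o ho)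
  rw [e, show d * (o * d * o) = d * o * d * o by group] at this
  rwa [CfsgLib.ThreeT.inv S.set hd]

/-- If the element of order three at `e_i` fixes `o`, so does the diagonal element at `(j, i)`. -/
theorem stab_X {ω : F} (hω0 : ω ≠ 0) (hω : ω ^ 2 = ω + 1) {o : G} (ho : o ∈ π.ker) {i j : Fin 5} (hij : i ≠ j)
    {k : Cfsg.SU 5 F 2} (hk : IsK ω k (Pi.single i 1)) (hko : k ∈ stab π o) {g : Cfsg.SU 5 F 2}
    (hg : IsX ω g j i) : g ∈ stab π o := by
  obtain ⟨k', l', m', hd, hall⟩ : ∃ k l m : Fin 5,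
      (i ≠ j ∧ i ≠ k ∧ i ≠ l ∧ i ≠ m ∧ j ≠ k ∧ j ≠ l ∧ j ≠ m ∧ k ≠ l ∧ k ≠ m ∧ l ≠ m) ∧
      ∀ x : Fin 5, x = i ∨ x = j ∨ x = k ∨ x = l ∨ x = m := by
    clear hk hg
    revert i j
    decide
  obtain ⟨b1, b2, b3, b4, b5, b6, b7, b8, b9, b10⟩ := id hd
  have hs := pt_pairC hF b1.symm (one_ne_zero (α := F))
  have ht := pt_pairC hF b1.symm (mul_ne_zero (one_ne_zero (α := F)) hω0)
  obtain ⟨f, hf, ef⟩ := S.exists_member (t := tv hF (pairC j i (1 : F))) ⟨_, hs, rfl⟩
  obtain ⟨f', hf', ef'⟩ := S.exists_member (t := tv hF (pairC j i (1 * ω))) ⟨_, ht, rfl⟩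
  have eg : g = π (f * f') := by
    rw [map_mul, ef, ef']; exact IsX.unique hF hg (isX_tv hF hω0 b1.symm one_ne_zero)
  set x := f * f' with hx
  set a := x * o * x⁻¹ * o with ha
  have hak : a ∈ π.ker := mul_mem ((MonoidHom.normal_ker π).conj_mem o ho x) ho
  have hperp : ∀ c : F, c ≠ 0 → ∀ r s : Fin 5, r ≠ s → r ≠ j → s ≠ j → r ≠ i → s ≠ i →
      tv hF (pairC r s c) ∈ stab π a := by
    intro c hc r s hrs h1 h2 h3 h4
    obtain ⟨h, hh', eh⟩ := S.exists_member (t := tv hF (pairC r s c)) ⟨_, pt_pairC hF hrs hc, rfl⟩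
    rw [← eh]
    refine mem_stab_of ?_
    have cs : ∀ d : F, d ≠ 0 → Commute (π h) (tv hF (pairC j i d)) := fun d hd => by
      rw [eh, tv_comm_iff hF (pt_pairC hF hrs hc) (pt_pairC hF b1.symm hd)]
      exact hh_pairC_disjoint hF h1.symm h3.symm h2.symm h4.symm c d
    have c1 : Commute (π h) (π f) := ef ▸ cs 1 one_ne_zero
    have c2 : Commute (π h) (π f') := ef' ▸ cs (1 * ω) (mul_ne_zero one_ne_zero hω0)
    have e : a = f * (f' * o * f'⁻¹ * o) * f⁻¹ * (f * o * f⁻¹ * o) := by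
      have e2 : o * o = 1 := hE.1 o ho
      rw [ha, hx]
      calc f * f' * o * (f * f')⁻¹ * o = f * f' * o * f'⁻¹ * 1 * f⁻¹ * o := by group
        _ = f * f' * o * f'⁻¹ * o * o * f⁻¹ * o := by rw [← e2]; group
        _ = f * (f' * o * f'⁻¹ * o) * f⁻¹ * (f * o * f⁻¹ * o) := by group
    rw [e]
    refine Commute.mul_right (S.commute_A hh' ?_ (S.conj_A f (comm_member S hE hf' ho)))
      (S.commute_A hh' c1 (comm_member S hE hf ho))
    exact (c1.mul_right c2).mul_right c1.inv_right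
  have hX : ∀ r s : Fin 5, r ≠ s → r ≠ j → s ≠ j → r ≠ i → s ≠ i → ∀ g', IsX ω g' r s → g' ∈ stab π a := by
    intro r s hrs h1 h2 h3 h4 g' hg'
    rw [IsX.unique hF hg' (isX_tv hF hω0 hrs (one_ne_zero (α := F)))]
    exact mul_mem (hperp 1 one_ne_zero r s hrs h1 h2 h3 h4)
      (hperp (1 * ω) (mul_ne_zero one_ne_zero hω0) r s hrs h1 h2 h3 h4)
  set g₂ := tv hF (pairC k' l' (1 : F)) * tv hF (pairC k' l' (1 * ω)) with hg₂
  set g₃ := tv hF (pairC m' l' (1 : F)) * tv hF (pairC m' l' (1 * ω)) with hg₃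
  have x₂ : IsX ω g₂ k' l' := isX_tv hF hω0 b8 one_ne_zero
  have x₃ : IsX ω g₃ m' l' := isX_tv hF hω0 b10.symm one_ne_zero
  have hkg := isK_single hF hω hd hall hk hg x₂ x₃
  have hkc : Commute (π x) k := by
    rw [← eg]
    refine su_ext fun y => ?_
    rw [suMat_mul, suMat_mul, ← Matrix.mulVec_mulVec, ← Matrix.mulVec_mulVec, hk, hg, hg y, hk,
      hh_single hF, hh_single hF, one_pow, mul_one, mul_one]
    refine funext fun l => ?_
    simp only [Pi.add_apply, Pi.smul_apply, smul_eq_mul]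
    rcases eq_or_ne l i with rfl | hli
    · simp [b1]; ring
    · rcases eq_or_ne l j with rfl | hlj
      · simp [hli]
      · simp [hli, hlj]
  have hka : k ∈ stab π a := stab_comm hE ho S.surj hko hkc
  have hga : π x ∈ stab π a := by
    have e : g = k * (g₂ * g₃)⁻¹ := by rw [hkg]; group
    rw [← eg, e]
    exact mul_mem hka (inv_mem (mul_mem (hX k' l' b8 b5.symm b6.symm b2.symm b3.symm g₂ x₂)
      (hX m' l' b10.symm b7.symm b6.symm b4.symm b3.symm g₃ x₃)))
  have hxa : Commute x a := commute_of_stab hE hak hga rfl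
  have hg3 : g * g * g = 1 := by
    refine su_ext fun y => ?_
    rw [suMat_mul, suMat_mul, ← Matrix.mulVec_mulVec, ← Matrix.mulVec_mulVec, hg y, hg, hg, suMat_one,
      Matrix.one_mulVec]
    have hw3 := pow_three hF hω0
    refine funext fun l => ?_
    by_cases hlj : l = j
    · subst hlj; simp only [if_true]; linear_combination (y l) * hw3
    · by_cases hli : l = i
      · subst hli; simp only [if_true, if_neg hlj]; linear_combination (y l) * (ω ^ 3 * hw3 + hw3)
      · simp only [if_neg hlj, if_neg hli]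
  have hx3 : x * x * x ∈ π.ker := by rw [MonoidHom.mem_ker, map_mul, map_mul, ← eg, hg3]
  have e1 : x * o * x⁻¹ = a * o := by rw [ha, mul_assoc (x * o * x⁻¹), hE.1 o ho, mul_one]
  have e2 : x * a * x⁻¹ = a := by rw [hxa.eq, mul_inv_cancel_right]
  have e3 : x * x * x * o * (x * x * x)⁻¹ = a * a * a * o := by
    calc x * x * x * o * (x * x * x)⁻¹ = x * (x * (x * o * x⁻¹) * x⁻¹) * x⁻¹ := by group
      _ = x * (x * (a * o) * x⁻¹) * x⁻¹ := by rw [e1]
      _ = x * ((x * a * x⁻¹) * (x * o * x⁻¹)) * x⁻¹ := by group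
      _ = x * (a * (a * o)) * x⁻¹ := by rw [e2, e1]
      _ = (x * a * x⁻¹) * (x * a * x⁻¹) * (x * o * x⁻¹) := by group
      _ = _ := by rw [e2, e1, ← mul_assoc]
  rw [(hE.2 _ hx3 _ ho).eq, mul_inv_cancel_right, hE.1 a hak, one_mul, right_eq_mul] at e3
  rw [eg]
  exact mem_stab_of (show x * o = o * x from mul_inv_eq_iff_eq_mul.1 (by rw [e1, e3, one_mul]))

/-- If all diagonal elements fix `o`, so do the transvections at two coordinates. -/
theorem stab_plane {ω : F} (hω0 : ω ≠ 0) (hω1 : ω ≠ 1) {o : G} (ho : o ∈ π.ker) {i j : Fin 5} (hij : i ≠ j)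
    (hX : ∀ g, IsX ω g i j → g ∈ stab π o) {c : F} (hc : c ≠ 0) : tv hF (pairC i j c) ∈ stab π o := by
  have ht := pt_pairC hF hij hc
  have hs := pt_pairC hF hij (mul_ne_zero hc hω0)
  obtain ⟨d, hd, ed⟩ := S.exists_member (t := tv hF (pairC i j c)) ⟨_, ht, rfl⟩
  obtain ⟨e, he, ee⟩ := S.exists_member (t := tv hF (pairC i j (c * ω))) ⟨_, hs, rfl⟩
  set a := d * o * d⁻¹ * o with ha
  have haA : a ∈ A D π (π d) := comm_member S hE hd ho
  have hak : a ∈ π.ker := S.A_le_ker _ haA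
  have hX' := hX _ (isX_tv hF hω0 hij hc)
  rw [← ed, ← ee] at hX'
  have hde : π d * π e ∈ stab π a := by
    refine stab_mul hE ((MonoidHom.normal_ker π).conj_mem o ho d) ho ?_ hX'
    have := stab_conj hE ho S.surj (inv_mem hX') d
    have e2 : π d * π d = 1 := by rw [← map_mul, CfsgLib.ThreeT.sq S.set hd, map_one]
    have e3 : (π d)⁻¹ = π d := inv_eq_of_mul_eq_one_right e2
    have e4 : (π e)⁻¹ = π e := by rw [← map_inv, CfsgLib.ThreeT.inv S.set he]
    rwa [_root_.mul_inv_rev, e3, e4, show π d * (π e * π d) * π d = π d * π e * (π d * π d) by group, e2, mul_one] at this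
  have hdd : π d ∈ stab π a := mem_stab_of (S.commute_A hd (Commute.refl _) haA)
  have hee : π e ∈ stab π a := by
    have := mul_mem (inv_mem hdd) hde
    rwa [inv_mul_cancel_left] at this
  have ha1 : a = 1 := by
    refine S.A_fixed he (S.mem_T hd) ?_ haA (commute_of_stab hE hak hee rfl)
    rw [ee, ed, tv_comm_iff hF hs ht, hh_pairC hF]
    simp only [pairC, Pi.add_apply, Pi.single_eq_same, Pi.single_eq_of_ne hij, Pi.single_eq_of_ne hij.symm,
      add_zero, zero_add]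
    intro h
    exact hω1 (by linear_combination h - ω * (pow_three hF hc) - (CharTwo.two_eq_zero (R := F)))
  rw [← ed]
  refine mem_stab_of (show d * o = o * d from mul_inv_eq_iff_eq_mul.1 ?_)
  rw [show d * o * d⁻¹ = a * o by rw [ha, mul_assoc (d * o * d⁻¹), hE.1 o ho, mul_one], ha1, one_mul]

/-- If the element of order three at `e_i` fixes `o`, all diagonal elements do. -/
theorem stab_allX {ω : F} (hω0 : ω ≠ 0) (hω : ω ^ 2 = ω + 1) {o : G} (ho : o ∈ π.ker) {i : Fin 5}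
    {k : Cfsg.SU 5 F 2} (hk : IsK ω k (Pi.single i 1)) (hko : k ∈ stab π o) {r s : Fin 5} (hrs : r ≠ s)
    {g : Cfsg.SU 5 F 2} (hg : IsX ω g r s) : g ∈ stab π o := by
  rcases eq_or_ne s i with rfl | hs
  · exact stab_X S hE hω0 hω ho hrs.symm hk hko hg
  rcases eq_or_ne r i with rfl | hr
  · exact inv_inv g ▸ inv_mem (stab_X S hE hω0 hω ho hrs hk hko (IsX.inv hF hω0 hrs hg))
  have h1 := isX_tv hF hω0 hr (one_ne_zero (α := F))
  have h2 := isX_tv hF hω0 hs (one_ne_zero (α := F))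
  rw [isX_mul hF hω0 hr hs.symm hrs h1 (IsX.inv hF hω0 hs h2) hg]
  exact mul_mem (stab_X S hE hω0 hω ho hr.symm hk hko h1) (inv_mem (stab_X S hE hω0 hω ho hs.symm hk hko h2))

/-- If all diagonal elements fix `o`, so do the elements of order three at the basis. -/
theorem stab_K {ω : F} (hω0 : ω ≠ 0) (hω : ω ^ 2 = ω + 1) {o : G}
    (hX : ∀ r s, r ≠ s → ∀ g, IsX ω g r s → g ∈ stab π o) {i : Fin 5} {k : Cfsg.SU 5 F 2}
    (hk : IsK ω k (Pi.single i 1)) : k ∈ stab π o := by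
  obtain ⟨j, k', l', m', hd, hall⟩ : ∃ j k l m : Fin 5,
      (i ≠ j ∧ i ≠ k ∧ i ≠ l ∧ i ≠ m ∧ j ≠ k ∧ j ≠ l ∧ j ≠ m ∧ k ≠ l ∧ k ≠ m ∧ l ≠ m) ∧
      ∀ x : Fin 5, x = i ∨ x = j ∨ x = k ∨ x = l ∨ x = m := by
    clear hk
    revert i
    decide
  obtain ⟨b1, b2, b3, b4, b5, b6, b7, b8, b9, b10⟩ := id hd
  have x₁ := isX_tv hF hω0 b1.symm (one_ne_zero (α := F))
  have x₂ := isX_tv hF hω0 b8 (one_ne_zero (α := F))
  have x₃ := isX_tv hF hω0 b10.symm (one_ne_zero (α := F))
  rw [isK_single hF hω hd hall hk x₁ x₂ x₃]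
  exact mul_mem (mul_mem (hX _ _ b1.symm _ x₁) (hX _ _ b8 _ x₂)) (hX _ _ b10.symm _ x₃)

theorem fpf_single {ω : F} (hω0 : ω ≠ 0) (hω1 : ω ≠ 1) (hω : ω ^ 2 = ω + 1) {o : G} (ho : o ∈ π.ker)
    {i₀ : Fin 5} {k : Cfsg.SU 5 F 2} (hk : IsK ω k (Pi.single i₀ 1)) (hko : k ∈ stab π o) : o = 1 := by
  have hX : ∀ r s, r ≠ s → ∀ g, IsX ω g r s → g ∈ stab π o :=
    fun r s hrs g hg => stab_allX S hE hω0 hω ho hk hko hrs hg
  refine S.eq_one_of_commute_D fun d hd => ?_
  obtain ⟨v, hv, ev⟩ := S.mem_T hd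
  refine commute_of_stab hE ho ?_ rfl
  rw [← ev]
  have plane : ∀ r s : Fin 5, r ≠ s → (∀ l, l ≠ r → l ≠ s → v l = 0) → tv hF v ∈ stab π o := by
    intro r s hrs hsup
    have hsum : v r ^ 3 + v s ^ 3 = 0 := by
      rw [← hv.2, Cfsg.hermForm, Fintype.sum_eq_add r s hrs fun l hl => by rw [hsup l hl.1 hl.2, zero_mul]]
      ring
    have hr : v r ≠ 0 := fun h0 => hv.1 (funext fun l => by
      rcases eq_or_ne l r with rfl | hlr
      · exact h0
      rcases eq_or_ne l s with rfl | hls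
      · simpa [h0] using hsum
      · exact hsup l hlr hls)
    have hs : v s ≠ 0 := fun h0 => by simp [h0, hr] at hsum
    have e : v = v r • pairC r s (v s / v r) := by
      refine funext fun l => ?_
      rcases eq_or_ne l r with rfl | hlr
      · simp [pairC, hrs]
      rcases eq_or_ne l s with rfl | hls
      · simp [pairC, hrs.symm, mul_div_cancel₀, hr]
      · simp [pairC, hlr, hls, hsup l hlr hls]
    have hc : v s / v r ≠ 0 := div_ne_zero hs hr
    rw [e, tv_smul hF (pt_pairC hF hrs hc).2 hr]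
    exact stab_plane S hE hω0 hω1 ho hrs (hX r s hrs) hc
  have hcube : ∀ z : F, z ≠ 0 → z * z ^ 2 = 1 := fun z hz => by rw [← pow_succ', pow_three hF hz]
  have h2 : (2 : F) = 0 := CharTwo.two_eq_zero
  have hiso := hv.2
  rw [Cfsg.hermForm] at hiso
  obtain ⟨i, hi⟩ : ∃ i, v i = 0 := by
    by_contra hne
    push Not at hne
    rw [Finset.sum_congr rfl fun l _ => hcube _ (hne l)] at hiso
    simp at hiso
    exact one_ne_zero (α := F) (by linear_combination hiso - 2 * h2)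
  by_cases htwo : ∃ j, j ≠ i ∧ v j = 0
  · obtain ⟨j, hji, hj⟩ := htwo
    obtain ⟨r, s, t, hd, hall⟩ : ∃ r s t : Fin 5, (r ≠ s ∧ r ≠ t ∧ s ≠ t) ∧
        ∀ x : Fin 5, x = i ∨ x = j ∨ x = r ∨ x = s ∨ x = t := by
      revert hji
      clear hi hj
      revert i j
      decide
    have hzero : ∀ l, l ≠ r → l ≠ s → l ≠ t → v l = 0 := fun l h1 h2' h3 => by
      rcases hall l with rfl | rfl | rfl | rfl | rfl
      exacts [hi, hj, absurd rfl h1, absurd rfl h2', absurd rfl h3]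
    by_cases h0 : v r = 0
    · exact plane s t hd.2.2 fun l h1 h2' => if h : l = r then h ▸ h0 else hzero l h h1 h2'
    by_cases h0' : v s = 0
    · exact plane r t hd.2.1 fun l h1 h2' => if h : l = s then h ▸ h0' else hzero l h1 h h2'
    by_cases h0'' : v t = 0
    · exact plane r s hd.1 fun l h1 h2' => if h : l = t then h ▸ h0'' else hzero l h1 h2' h
    exfalso
    rw [← Finset.sum_subset (Finset.subset_univ {r, s, t}) (fun l _ hl => by
      simp only [Finset.mem_insert, Finset.mem_singleton, not_or] at hl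
      rw [hzero l hl.1 hl.2.1 hl.2.2, zero_mul]), Finset.sum_insert (by simp [hd.1, hd.2.1]),
      Finset.sum_insert (by simp [hd.2.2]), Finset.sum_singleton, hcube _ h0, hcube _ h0', hcube _ h0''] at hiso
    exact one_ne_zero (α := F) (by linear_combination hiso - h2)
  push Not at htwo
  -- support of size four
  rw [ev]
  set a := d * o * d⁻¹ * o with ha
  have haA : a ∈ A D π (π d) := comm_member S hE hd ho
  have hak : a ∈ π.ker := S.A_le_ker _ haA
  have hi1 : hh (Pi.single i 1) (Pi.single i (1 : F)) = 1 := by rw [hh_single hF]; simp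
  obtain ⟨k', hk'⟩ := exists_isK hF hω0 hω hi1
  have hcd : Commute (π d) k' := by
    refine (Commute.symm ?_)
    have e : suMat k' *ᵥ v = ω • v := by rw [hk' v, hh_single hF, hi, zero_mul, zero_smul, add_zero]
    have := tv_conj hF k' hv.2
    rw [e, tv_smul hF hv.2 hω0, ev] at this
    exact mul_inv_eq_iff_eq_mul.1 this
  have hka : k' ∈ stab π a := stab_comm hE ho S.surj (stab_K S hE hω0 hω hX hk') hcd
  have hXa : ∀ r s, r ≠ s → ∀ g, IsX ω g r s → g ∈ stab π a :=
    fun r s hrs g hg => stab_allX S hE hω0 hω hak hk' hka hrs hg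
  obtain ⟨r, s, hd', hri, hsi⟩ : ∃ r s : Fin 5, r ≠ s ∧ r ≠ i ∧ s ≠ i := by
    clear * - i
    revert i
    decide
  obtain ⟨c, hc, hcne⟩ : ∃ c : F, c ≠ 0 ∧ v r + v s * c ^ 2 ≠ 0 := by
    by_cases h1 : v r + v s * 1 ^ 2 = 0
    · refine ⟨ω, hω0, fun h => hω1 ?_⟩
      have : v s * (ω + 1) * (ω + 1) = 0 := by linear_combination h - h1 + (v s * (ω + 1)) * h2
      rcases mul_eq_zero.1 this with h' | h'
      · rcases mul_eq_zero.1 h' with h'' | h''
        · exact absurd h'' (htwo s hsi)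
        · linear_combination h'' - h2
      · linear_combination h' - h2
    · exact ⟨1, one_ne_zero, h1⟩
  have hs := pt_pairC hF hd' hc
  obtain ⟨e, he, ee⟩ := S.exists_member (t := tv hF (pairC r s c)) ⟨_, hs, rfl⟩
  have ha1 : a = 1 := by
    refine S.A_fixed he (S.mem_T hd) ?_ haA (commute_of_stab hE hak ?_ rfl)
    · rw [ee, ← ev, tv_comm_iff hF hs hv, hh_comm hF, hh_pairC hF]
      exact hcne
    · rw [ee]
      exact stab_plane S hE hω0 hω1 hak hd' (hXa r s hd') hc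
  refine mem_stab_of (show d * o = o * d from mul_inv_eq_iff_eq_mul.1 ?_)
  rw [show d * o * d⁻¹ = a * o by rw [ha, mul_assoc (d * o * d⁻¹), hE.1 o ho, mul_one], ha1, one_mul]

theorem fpf {ω : F} (hω0 : ω ≠ 0) (hω1 : ω ≠ 1) (hω : ω ^ 2 = ω + 1) {w : V} (hw : hh w w = 1)
    {k : Cfsg.SU 5 F 2} (hk : IsK ω k w) {o : G} (ho : o ∈ π.ker) (hko : k ∈ stab π o) : o = 1 := by
  have h0 : hh (Pi.single 0 1) (Pi.single (0 : Fin 5) (1 : F)) = 1 := by rw [hh_single hF]; simp
  obtain ⟨c, -, hc⟩ := conn_sphere hF (n := 5) (by norm_num) (by simp) one_ne_zero hw h0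
  obtain ⟨x, rfl⟩ := S.surj c
  have h1 := fpf_single S hE hω0 hω1 hω ((MonoidHom.normal_ker π).conj_mem o ho x)
    (hc ▸ IsK.conj hF hk (π x)) (stab_conj hE ho S.surj hko x)
  exact conj_eq_one_iff.1 h1

end CfsgLib.TwoRad
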