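import Cfsg.Agent.TwoRadical.Points

/-!
`SU₅(2)`: the elements of order three attached to vectors of norm one, and orthogonality facts.
-/

set_option autoImplicit false
set_option linter.unusedSectionVars false
set_option linter.style.haveILetI false

namespace CfsgLib.TwoRad

open Matrix CfsgLib.Unitary

variable {F : Type} [Field F] [Finite F] [CharP F 2] (hF : Nat.card F = 2 ^ 2)

local notation "V" => Fin 5 → F
local notation "hh" => Cfsg.hermForm 5 F 2

/-- A vector supported on two coordinates. -/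
def pairC (i j : Fin 5) (c : F) : V := Pi.single i 1 + Pi.single j c

/-- The diagonal action with `ω` at `i` and `ω²` at `j`. -/
def IsX (ω : F) (g : Cfsg.SU 5 F 2) (i j : Fin 5) : Prop :=
  ∀ y, suMat g *ᵥ y = fun l => if l = i then ω * y l else if l = j then ω ^ 2 * y l else y l

/-- The action of the element of order three at a vector of norm one. -/
def IsK (ω : F) (g : Cfsg.SU 5 F 2) (w : V) : Prop := ∀ y, suMat g *ᵥ y = ω • y + hh y w • w

include hF

theorem hh_single_right (i : Fin 5) (c : F) (y : V) : hh y (Pi.single i c) = y i * c ^ 2 := hh_single hF i c y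

theorem hh_pairC (y : V) (i j : Fin 5) (c : F) : hh y (pairC i j c) = y i + y j * c ^ 2 := by
  rw [pairC, hh_add_right hF, hh_single hF, hh_single hF, one_pow, mul_one]

theorem pt_pairC {i j : Fin 5} (h : i ≠ j) {c : F} (hc : c ≠ 0) : Pt (pairC i j c) := by
  constructor
  · intro e
    have := congrFun e i
    simp [pairC, h] at this
  · rw [hh_pairC hF]
    simp only [pairC, Pi.add_apply, Pi.single_eq_same, Pi.single_eq_of_ne h, Pi.single_eq_of_ne h.symm,
      zero_add, add_zero]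
    rw [← pow_succ', pow_three hF hc]
    exact CharTwo.add_self_eq_zero 1

theorem hh_pairC_disjoint {i j k l : Fin 5} (h1 : k ≠ i) (h2 : l ≠ i) (h3 : k ≠ j) (h4 : l ≠ j) (c d : F) :
    hh (pairC i j c) (pairC k l d) = 0 := by
  rw [hh_pairC hF]
  simp [pairC, h1, h2, h3, h4]

theorem IsX.unique {ω : F} {g g' : Cfsg.SU 5 F 2} {i j : Fin 5} (h : IsX ω g i j) (h' : IsX ω g' i j) :
    g = g' := su_ext fun y => by rw [h y, h' y]

theorem isX_tv {ω : F} (hω : ω ≠ 0) {i j : Fin 5} (h : i ≠ j) {c : F} (hc : c ≠ 0) :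
    IsX ω (tv hF (pairC i j c) * tv hF (pairC i j (c * ω))) i j := by
  intro y
  rw [suMat_mul, ← Matrix.mulVec_mulVec, tv_apply hF (pt_pairC hF h (mul_ne_zero hc hω)).2,
    tv_apply hF (pt_pairC hF h hc).2, hh_pairC hF, hh_pairC hF]
  have h2 : (2 : F) = 0 := CharTwo.two_eq_zero
  have hc3 := pow_three hF hc
  have hw3 := pow_three hF hω
  refine funext fun l => ?_
  rcases eq_or_ne l i with rfl | hli
  · simp only [pairC, Pi.add_apply, Pi.smul_apply, smul_eq_mul, Pi.single_eq_same, Pi.single_eq_of_ne h,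
      Pi.single_eq_of_ne h.symm, if_true]
    linear_combination (y l * ω + y j * c ^ 2 * ω ^ 3) * hc3 + (y j * c ^ 2) * hw3 +
      (y l + (y l + y j * c ^ 2 * ω ^ 2) + y j * c ^ 2) * h2
  rcases eq_or_ne l j with rfl | hlj
  · simp only [pairC, Pi.add_apply, Pi.smul_apply, smul_eq_mul, Pi.single_eq_same, Pi.single_eq_of_ne h,
      Pi.single_eq_of_ne h.symm, if_true, if_neg hli]
    linear_combination (y i * c * ω + y l * (1 + ω ^ 3 * c ^ 3 + ω ^ 2)) * hc3 +
      (y i * (c + c * ω) + y l * (1 + ω ^ 3 * c ^ 3)) * h2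
  · simp only [pairC, Pi.add_apply, Pi.smul_apply, smul_eq_mul, Pi.single_eq_of_ne hli, Pi.single_eq_of_ne hlj,
      if_neg hli, if_neg hlj]
    ring

theorem IsX.inv {ω : F} (hω : ω ≠ 0) {g : Cfsg.SU 5 F 2} {i j : Fin 5} (hij : i ≠ j) (h : IsX ω g i j) :
    IsX ω g⁻¹ j i := by
  intro y
  have e : y = suMat g *ᵥ (fun l => if l = j then ω * y l else if l = i then ω ^ 2 * y l else y l) := by
    rw [h]
    refine funext fun l => ?_
    have hw3 := pow_three hF hω
    by_cases hli : l = i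
    · subst hli; simp only [if_true, if_neg hij]; linear_combination (-y l) * hw3
    · by_cases hlj : l = j
      · subst hlj; simp only [if_true, if_neg hli]; linear_combination (-y l) * hw3
      · simp only [if_neg hli, if_neg hlj]
  conv_lhs => rw [e, su_inv_mulVec]

theorem isX_mul {ω : F} (hω : ω ≠ 0) {g g' g'' : Cfsg.SU 5 F 2} {i j k : Fin 5} (hij : i ≠ j) (hjk : j ≠ k)
    (hik : i ≠ k) (h : IsX ω g i j) (h' : IsX ω g' j k) (h'' : IsX ω g'' i k) : g'' = g * g' := by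
  refine su_ext fun y => ?_
  rw [suMat_mul, ← Matrix.mulVec_mulVec, h' y, h, h'' y]
  have hw3 := pow_three hF hω
  refine funext fun l => ?_
  by_cases hli : l = i
  · subst hli; simp [hij, hik]
  · by_cases hlj : l = j
    · subst hlj; simp only [if_true, if_neg hli, if_neg hjk]; linear_combination (-y l) * hw3
    · by_cases hlk : l = k
      · subst hlk; simp [hli, hlj]
      · simp [hli, hlj, hlk]

theorem IsK.unique {ω : F} {g g' : Cfsg.SU 5 F 2} {w : V} (h : IsK ω g w) (h' : IsK ω g' w) : g = g' :=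
  su_ext fun y => by rw [h y, h' y]

theorem IsK.conj {ω : F} {g : Cfsg.SU 5 F 2} {w : V} (h : IsK ω g w) (c : Cfsg.SU 5 F 2) :
    IsK ω (c * g * c⁻¹) (suMat c *ᵥ w) := by
  intro y
  obtain ⟨z, rfl⟩ : ∃ z, suMat c *ᵥ z = y := ⟨suMat c⁻¹ *ᵥ y, by
    rw [Matrix.mulVec_mulVec, ← suMat_mul, mul_inv_cancel, suMat_one, Matrix.one_mulVec]⟩
  rw [suMat_mul, suMat_mul, ← Matrix.mulVec_mulVec, ← Matrix.mulVec_mulVec, su_inv_mulVec, h z, su_preserves,
    Matrix.mulVec_add, Matrix.mulVec_smul, Matrix.mulVec_smul]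

theorem IsK.comm {ω : F} {g g' : Cfsg.SU 5 F 2} {w w' : V} (h : IsK ω g w) (h' : IsK ω g' w')
    (e : hh w w' = 0) : Commute g g' := by
  have e' := (hh_comm hF).1 e
  refine su_ext fun y => ?_
  rw [suMat_mul, suMat_mul, ← Matrix.mulVec_mulVec, ← Matrix.mulVec_mulVec, h' y, h y, h, h']
  simp only [herm_add_left, herm_smul_left, e, e', mul_zero, add_zero, smul_add, smul_smul]
  refine funext fun l => ?_
  simp only [Pi.add_apply, Pi.smul_apply, smul_eq_mul]
  ring

theorem isK_single {ω : F} (hω : ω ^ 2 = ω + 1) {g g₁ g₂ g₃ : Cfsg.SU 5 F 2} {i j k l m : Fin 5}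
    (hd : i ≠ j ∧ i ≠ k ∧ i ≠ l ∧ i ≠ m ∧ j ≠ k ∧ j ≠ l ∧ j ≠ m ∧ k ≠ l ∧ k ≠ m ∧ l ≠ m)
    (hall : ∀ x : Fin 5, x = i ∨ x = j ∨ x = k ∨ x = l ∨ x = m)
    (hg : IsK ω g (Pi.single i 1)) (h₁ : IsX ω g₁ j i) (h₂ : IsX ω g₂ k l) (h₃ : IsX ω g₃ m l) :
    g = g₁ * g₂ * g₃ := by
  obtain ⟨a1, a2, a3, a4, a5, a6, a7, a8, a9, a10⟩ := hd
  refine su_ext fun y => ?_
  rw [suMat_mul, suMat_mul, ← Matrix.mulVec_mulVec, ← Matrix.mulVec_mulVec, h₃ y, h₂, h₁, hg y,
    hh_single hF, one_pow, mul_one]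
  have h2 : (2 : F) = 0 := CharTwo.two_eq_zero
  refine funext fun x => ?_
  simp only [Pi.add_apply, Pi.smul_apply, smul_eq_mul]
  rcases hall x with rfl | rfl | rfl | rfl | rfl
  · rw [Pi.single_eq_same]
    simp [a1, a2, a3, a4]
    linear_combination (-y x) * hω
  · simp [a1.symm, a5, a6, a7]
  · simp [a2.symm, a5.symm, a8, a9]
  · simp [a3.symm, a6.symm, a8.symm, a10]
    linear_combination (-y x * (ω * (ω + 1))) * hω - (y x * ω ^ 2) * h2
  · simp [a4.symm, a7.symm, a9.symm, a10.symm]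

theorem exists_isK {ω : F} (hω0 : ω ≠ 0) (hω : ω ^ 2 = ω + 1) {w : V} (hw : hh w w = 1) :
    ∃ g, IsK ω g w := by
  have h0 : hh (Pi.single 0 1) (Pi.single (0 : Fin 5) (1 : F)) = 1 := by rw [hh_single hF]; simp
  obtain ⟨c, -, hc⟩ := conn_sphere hF (n := 5) (by norm_num) (by simp) one_ne_zero h0 hw
  set g₁ := tv hF (pairC (1 : Fin 5) 0 (1 : F)) * tv hF (pairC 1 0 (1 * ω))
  set g₂ := tv hF (pairC (2 : Fin 5) 3 (1 : F)) * tv hF (pairC 2 3 (1 * ω))
  set g₃ := tv hF (pairC (4 : Fin 5) 3 (1 : F)) * tv hF (pairC 4 3 (1 * ω))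
  suffices IsK ω (g₁ * g₂ * g₃) (Pi.single 0 1) from ⟨_, hc ▸ IsK.conj hF this c⟩
  intro y
  rw [suMat_mul, suMat_mul, ← Matrix.mulVec_mulVec, ← Matrix.mulVec_mulVec,
    isX_tv hF hω0 (by decide) one_ne_zero, isX_tv hF hω0 (by decide) one_ne_zero,
    isX_tv hF hω0 (by decide) one_ne_zero, hh_single hF, one_pow, mul_one]
  have h2 : (2 : F) = 0 := CharTwo.two_eq_zero
  refine funext fun x => ?_
  fin_cases x <;> simp
  · linear_combination (y 0) * hω
  · linear_combination (y 3 * (ω * (ω + 1))) * hω + y 3 * ω ^ 2 * h2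

/-! ### Orthogonality -/

theorem exists_frame {a b : V} (ha : hh a a = 1) (hb : hh b b = 1) (hab : hh a b = 0) :
    ∃ M N : Matrix (Fin 5) (Fin 5) F, (∀ x y, hh (M *ᵥ x) (M *ᵥ y) = hh x y) ∧ (∀ x, M *ᵥ (N *ᵥ x) = x) ∧
      M *ᵥ a = Pi.single 0 1 ∧ M *ᵥ b = Pi.single 1 1 := by
  have hli : ∀ u v : V, hh u u = 1 → hh v v = 1 → hh u v = 0 → LinearIndependent F ![u, v] := by
    intro u v hu hv huv
    rw [LinearIndependent.pair_iff]
    intro s t e
    have e1 := congrArg (fun x => hh x u) e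
    have e2 := congrArg (fun x => hh x v) e
    simp only [herm_add_left, herm_smul_left, hu, hv, huv, (hh_comm hF).1 huv, hh_zero_left hF, mul_zero,
      mul_one, add_zero, zero_add] at e1 e2
    exact ⟨e1, e2⟩
  have h0 : ∀ i : Fin 5, hh (Pi.single i 1) (Pi.single i (1 : F)) = 1 := fun i => by rw [hh_single hF]; simp
  have h01 : hh (Pi.single 0 1) (Pi.single (1 : Fin 5) (1 : F)) = 0 := by rw [hh_single hF]; simp
  obtain ⟨g, hg⟩ := exists_GU_family hF ![a, b] ![Pi.single 0 1, Pi.single 1 1] (hli a b ha hb hab)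
    (hli _ _ (h0 0) (h0 1) h01) (fun i j => by
      fin_cases i <;> fin_cases j <;>
        simp [ha, hb, hab, (hh_comm hF).1 hab, h0, h01, (hh_comm hF).1 h01])
  refine ⟨(g : Matrix.GeneralLinearGroup (Fin 5) F), (((g : Matrix.GeneralLinearGroup (Fin 5) F)⁻¹ :
    Matrix.GeneralLinearGroup (Fin 5) F) : Matrix (Fin 5) (Fin 5) F), g.2, fun x => ?_, hg 0, hg 1⟩
  rw [Matrix.mulVec_mulVec, ← Units.val_mul, mul_inv_cancel, Units.val_one, Matrix.one_mulVec]

theorem exists_unit_perp {a b c d : V} (ha : hh a a = 1) (hb : hh b b = 1) (hab : hh a b = 0)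
    (hd : d = 0 ∨ (hh c c = 0 ∧ hh d d = 0 ∧ hh c d = 0 ∧ hh c a = 0 ∧ hh c b = 0 ∧ hh d a = 0 ∧ hh d b = 0)) :
    ∃ y, hh y y = 1 ∧ hh y a = 0 ∧ hh y b = 0 ∧ hh y c = 0 ∧ hh y d = 0 := by
  obtain ⟨M, N, hM, hMN, hMa, hMb⟩ := exists_frame hF ha hb hab
  suffices ∃ y, hh y y = 1 ∧ y 0 = 0 ∧ y 1 = 0 ∧ hh y (M *ᵥ c) = 0 ∧ hh y (M *ᵥ d) = 0 by
    obtain ⟨y, h1, h2, h3, h4, h5⟩ := this
    refine ⟨N *ᵥ y, ?_, ?_, ?_, ?_, ?_⟩
    · rw [← hM, hMN]; exact h1
    · rw [← hM, hMN, hMa, hh_single hF, h2, zero_mul]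
    · rw [← hM, hMN, hMb, hh_single hF, h3, zero_mul]
    · rw [← hM, hMN]; exact h4
    · rw [← hM, hMN]; exact h5
  set u := M *ᵥ c with hu
  set r := M *ᵥ d with hr
  have single : ∀ i : Fin 5, 2 ≤ (i : ℕ) → u i = 0 → r i = 0 →
      ∃ y, hh y y = 1 ∧ y 0 = 0 ∧ y 1 = 0 ∧ hh y u = 0 ∧ hh y r = 0 := fun i hi h1 h2 => by
    refine ⟨Pi.single i 1, by rw [hh_single hF]; simp, Pi.single_eq_of_ne (fun e => by rw [← e] at hi; simp at hi) _,
      Pi.single_eq_of_ne (fun e => by rw [← e] at hi; simp at hi) _, ?_, ?_⟩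
    · rw [(hh_comm hF), hh_single hF, h1, zero_mul]
    · rw [(hh_comm hF), hh_single hF, h2, zero_mul]
  have hz : d = 0 → r = 0 := fun e => by rw [hr, e, Matrix.mulVec_zero]
  by_cases h234 : u 2 = 0 ∨ u 3 = 0 ∨ u 4 = 0
  swap
  · push Not at h234
    obtain ⟨n2, n3, n4⟩ := h234
    obtain ⟨ω, hω0, -, hω⟩ := exists_omega hF
    have hr0 : r = 0 := by
      rcases hd with h | ⟨hcc, -, -, hca, hcb, -, -⟩
      · exact hz h
      · exfalso
        rw [← hM] at hcc hca hcb
        rw [hMa, hh_single hF, one_pow, mul_one] at hca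
        rw [hMb, hh_single hF, one_pow, mul_one] at hcb
        rw [← hu] at hcc hca hcb
        simp only [Cfsg.hermForm, Fin.sum_univ_five, hca, hcb, zero_mul, zero_add, ← pow_succ',
          show 2 + 1 = 3 from rfl, pow_three hF n2, pow_three hF n3, pow_three hF n4] at hcc
        exact one_ne_zero (α := F) (by linear_combination hcc - (CharTwo.two_eq_zero (R := F)))
    refine ⟨![0, 0, 1 / u 2 ^ 2, ω / u 3 ^ 2, ω ^ 2 / u 4 ^ 2], ?_, rfl, rfl, ?_, by rw [hr0, hh_zero_right hF]⟩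
    · simp only [Cfsg.hermForm, Fin.sum_univ_five, Matrix.cons_val_zero, Matrix.cons_val_one, Matrix.cons_val,
        zero_mul, zero_add, ← pow_succ', show 2 + 1 = 3 from rfl,
        pow_three hF (div_ne_zero one_ne_zero (pow_ne_zero 2 n2)),
        pow_three hF (div_ne_zero hω0 (pow_ne_zero 2 n3)),
        pow_three hF (div_ne_zero (pow_ne_zero 2 hω0) (pow_ne_zero 2 n4))]
      linear_combination (CharTwo.two_eq_zero (R := F))
    · simp only [Cfsg.hermForm, Fin.sum_univ_five, Matrix.cons_val_zero, Matrix.cons_val_one, Matrix.cons_val,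
        zero_mul, zero_add]
      rw [div_mul_cancel₀ _ (pow_ne_zero 2 n2), div_mul_cancel₀ _ (pow_ne_zero 2 n3),
        div_mul_cancel₀ _ (pow_ne_zero 2 n4)]
      linear_combination hω + (ω + 1) * (CharTwo.two_eq_zero (R := F))
  rcases hd with hd | ⟨hcc, hdd, hcd, hca, hcb, hda, hdb⟩
  · rcases h234 with h | h | h
    · exact single 2 (by simp) h (by rw [hz hd]; rfl)
    · exact single 3 (by simp) h (by rw [hz hd]; rfl)
    · exact single 4 (by simp) h (by rw [hz hd]; rfl)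
  rw [← hM] at hcc hdd hcd hca hcb hda hdb
  rw [hMa, hh_single hF, one_pow, mul_one] at hca hda
  rw [hMb, hh_single hF, one_pow, mul_one] at hcb hdb
  rw [← hu] at hcc hca hcb hcd
  rw [← hr] at hdd hda hdb hcd
  simp only [Cfsg.hermForm, Fin.sum_univ_five, hca, hcb, hda, hdb, zero_mul, zero_add]
    at hcc hdd hcd
  have hcube : ∀ z : F, z * z ^ 2 = 0 ↔ z = 0 := fun z => by
    refine ⟨fun e => ?_, fun e => by rw [e, zero_mul]⟩
    by_contra hne
    rw [← pow_succ', pow_three hF hne] at e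
    exact one_ne_zero e
  have hnz : ∀ z : F, z ≠ 0 → z * z ^ 2 = 1 := fun z hne => by rw [← pow_succ', pow_three hF hne]
  have key : ∀ i j l : Fin 5, 2 ≤ (i : ℕ) → u i = 0 →
      u i * u i ^ 2 + u j * u j ^ 2 + u l * u l ^ 2 = 0 → r i * r i ^ 2 + r j * r j ^ 2 + r l * r l ^ 2 = 0 →
      u i * r i ^ 2 + u j * r j ^ 2 + u l * r l ^ 2 = 0 → u = 0 ∨ r i = 0 ∨ (u j = 0 ∧ u l = 0) := by
    intro i j l _ hi e1 e2 e3
    right
    rw [hi, zero_mul, zero_add] at e1
    rcases eq_or_ne (u j) 0 with hj | hj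
    · rw [hj, zero_mul, zero_add, hcube] at e1
      exact Or.inr ⟨hj, e1⟩
    · refine Or.inl ((hcube _).1 ?_)
      rw [hi, zero_mul, zero_add] at e3
      have h2 : (2 : F) = 0 := CharTwo.two_eq_zero
      have hl : u l ≠ 0 := fun hl => by
        rw [hl, zero_mul, add_zero, hnz _ hj] at e1
        exact one_ne_zero e1
      have e4 : r j * r j ^ 2 = r l * r l ^ 2 := by
        rcases eq_or_ne (r j) 0 with hrj | hrj
        · rw [hrj, zero_pow two_ne_zero, mul_zero, zero_add] at e3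
          have := pow_eq_zero_iff (two_ne_zero) |>.1 ((mul_eq_zero.1 e3).resolve_left hl)
          rw [this, hrj]
        · have hrl : r l ≠ 0 := fun hrl => by
            rw [hrl, zero_pow two_ne_zero, mul_zero, add_zero] at e3
            exact hrj (pow_eq_zero_iff (two_ne_zero) |>.1 ((mul_eq_zero.1 e3).resolve_left hj))
          rw [hnz _ hrj, hnz _ hrl]
      linear_combination e2 - e4 - (r l * r l ^ 2) * h2
  -- a coordinate where both vanish
  have both : ∀ i j l : Fin 5, 2 ≤ (i : ℕ) → 2 ≤ (j : ℕ) → 2 ≤ (l : ℕ) → u i = 0 →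
      u i * u i ^ 2 + u j * u j ^ 2 + u l * u l ^ 2 = 0 → r i * r i ^ 2 + r j * r j ^ 2 + r l * r l ^ 2 = 0 →
      u i * r i ^ 2 + u j * r j ^ 2 + u l * r l ^ 2 = 0 → ∃ y, hh y y = 1 ∧ y 0 = 0 ∧ y 1 = 0 ∧ hh y u = 0 ∧ hh y r = 0 := by
    intro i j l h1 h2 h3 hi e1 e2 e3
    by_cases hri : r i = 0
    · exact single i h1 hi hri
    have hju : u j = 0 ∧ u l = 0 := by
      rcases key i j l h1 hi e1 e2 e3 with h | h | h
      · exact ⟨by rw [h]; rfl, by rw [h]; rfl⟩
      · exact absurd h hri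
      · exact h
    by_cases hrj : r j = 0
    · exact single j h2 hju.1 hrj
    by_cases hrl : r l = 0
    · exact single l h3 hju.2 hrl
    rw [hnz _ hri, hnz _ hrj, hnz _ hrl] at e2
    exact absurd (by linear_combination e2 - (CharTwo.two_eq_zero (R := F)) : (1 : F) = 0) one_ne_zero
  rcases h234 with h | h | h
  · exact both 2 3 4 (by simp) (by simp) (by simp) h (by linear_combination hcc) (by linear_combination hdd)
      (by linear_combination hcd)
  · exact both 3 2 4 (by simp) (by simp) (by simp) h (by linear_combination hcc) (by linear_combination hdd)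
      (by linear_combination hcd)
  · exact both 4 2 3 (by simp) (by simp) (by simp) h (by linear_combination hcc) (by linear_combination hdd)
      (by linear_combination hcd)

end CfsgLib.TwoRad
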