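import Cfsg.Agent.Unitary.Commutators
import Cfsg.Agent.Unitary.InvolClass

/-!
Transvections of `SU_n(2)`; the unipotent radical at an isotropic point lies in the group generated by the
transvections of its perp; two non-commuting transvections have perps generating; a five-term relation.
-/

set_option autoImplicit false
set_option linter.unusedSectionVars false
set_option linter.style.haveILetI false

namespace CfsgLib.TwoRad

open Matrix CfsgLib.Unitary

variable {F : Type} [Field F] [Finite F] [CharP F 2] {n : ℕ} (hF : Nat.card F = 2 ^ 2)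

local notation "V" => Fin n → F
local notation "hh" => Cfsg.hermForm n F 2

/-- A non-zero isotropic vector. -/
def Pt (v : Fin n → F) : Prop := v ≠ 0 ∧ Cfsg.hermForm n F 2 v v = 0

open Classical in
/-- The transvection centred at an isotropic vector. -/
noncomputable def tv (v : V) : Cfsg.SU n F 2 :=
  if h : hh v v = 0 then suTv n v 1 h (by rw [one_pow]; exact CharTwo.add_self_eq_zero 1) hF else 1

/-- The set of transvections. -/
def Tset : Set (Cfsg.SU n F 2) := {t | ∃ v, Pt v ∧ tv hF v = t}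

theorem tv_apply {v : V} (hv : hh v v = 0) (x : V) : suMat (tv hF v) *ᵥ x = x + hh x v • v := by
  rw [tv, dif_pos hv]
  show Cfsg.unitaryTransvection n 2 v 1 *ᵥ x = _
  rw [utv_mulVec, one_mul]

include hF

theorem hh_comm {u v : V} : hh u v = 0 ↔ hh v u = 0 := (uForm hF n).eq_zero_comm

theorem hh_zero_right (u : V) : hh u 0 = 0 := (uForm hF n).zero_right u

theorem hh_zero_left (u : V) : hh (0 : V) u = 0 := (uForm hF n).zero_left u

theorem hh_add_right (u v w : V) : hh u (v + w) = hh u v + hh u w := herm_add_right hF u v w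

theorem hh_smul_right (c : F) (u v : V) : hh u (c • v) = c ^ 2 * hh u v := herm_smul_right hF c u v

theorem pow_three {a : F} (ha : a ≠ 0) : a ^ 3 = 1 := by
  haveI := Fintype.ofFinite F
  have := FiniteField.pow_card_sub_one_eq_one a ha
  rwa [← Nat.card_eq_fintype_card, hF] at this

theorem exists_omega : ∃ ω : F, ω ≠ 0 ∧ ω ≠ 1 ∧ ω ^ 2 = ω + 1 := by
  obtain ⟨ω, h0, h1⟩ : ∃ ω : F, ω ≠ 0 ∧ ω ≠ 1 := by
    by_contra h
    push Not at h
    haveI := Fintype.ofFinite F
    classical
    have hs : (Finset.univ : Finset F) ⊆ {0, 1} := fun x _ => by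
      by_cases hx : x = 0 <;> simp [hx, h x]
    have := (Finset.card_le_card hs).trans Finset.card_le_two
    rw [Finset.card_univ, ← Nat.card_eq_fintype_card, hF] at this
    norm_num at this
  refine ⟨ω, h0, h1, ?_⟩
  have h3 := pow_three hF h0
  have e : (ω - 1) * (ω ^ 2 + ω + 1) = 0 := by linear_combination h3
  have h2 := (mul_eq_zero.1 e).resolve_left (sub_ne_zero.2 h1)
  linear_combination h2 - (ω + 1) * (CharTwo.two_eq_zero (R := F))

theorem tv_sq {v : V} (hv : hh v v = 0) : tv hF v * tv hF v = 1 := su_ext fun x => by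
  rw [suMat_mul, ← Matrix.mulVec_mulVec, tv_apply hF hv, tv_apply hF hv, herm_add_left, herm_smul_left, hv,
    mul_zero, add_zero, suMat_one, Matrix.one_mulVec, add_assoc, ← add_smul, CharTwo.add_self_eq_zero, zero_smul,
    add_zero]

theorem tv_conj (g : Cfsg.SU n F 2) {v : V} (hv : hh v v = 0) :
    g * tv hF v * g⁻¹ = tv hF (suMat g *ᵥ v) := by
  have hv' : hh (suMat g *ᵥ v) (suMat g *ᵥ v) = 0 := by rw [su_preserves, hv]
  refine Subtype.ext (Subtype.ext ?_)
  have h := utv_conj g (A := tv hF v) (v := v) (c := 1) (by rw [tv, dif_pos hv]; rfl)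
  rw [show tv hF (suMat g *ᵥ v) = suTv n _ 1 hv' (by rw [one_pow]; exact CharTwo.add_self_eq_zero 1) hF by
    rw [tv, dif_pos hv']]
  exact h

theorem tv_smul {v : V} (hv : hh v v = 0) {c : F} (hc : c ≠ 0) : tv hF (c • v) = tv hF v :=
  su_ext fun x => by
    rw [tv_apply hF (by rw [herm_smul_left, hh_smul_right hF, hv, mul_zero, mul_zero]), tv_apply hF hv,
      hh_smul_right hF, smul_smul, mul_right_comm, ← pow_succ, pow_three hF hc, one_mul]

theorem Pt.smul {v : V} (hv : Pt v) {c : F} (hc : c ≠ 0) : Pt (c • v) :=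
  ⟨smul_ne_zero hc hv.1, by rw [herm_smul_left, hh_smul_right hF, hv.2, mul_zero, mul_zero]⟩

theorem tv_comm_iff {u v : V} (hu : Pt u) (hv : Pt v) : Commute (tv hF u) (tv hF v) ↔ hh u v = 0 := by
  constructor
  · intro h
    by_contra hne
    have hne' : hh v u ≠ 0 := fun e => hne ((hh_comm hF).1 e)
    have e := congrArg (fun g => suMat g *ᵥ u) h.eq
    simp only [suMat_mul, ← Matrix.mulVec_mulVec, tv_apply hF hu.2, tv_apply hF hv.2, herm_add_left,
      herm_smul_left, hu.2, zero_smul, add_zero, zero_add] at e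
    have e2 : (hh u v * hh v u) • u = 0 := by simpa using e
    exact hu.1 ((smul_eq_zero.1 e2).resolve_left (mul_ne_zero hne hne'))
  · intro h
    have h' := (hh_comm hF).1 h
    refine su_ext fun x => ?_
    simp only [suMat_mul, ← Matrix.mulVec_mulVec, tv_apply hF hu.2, tv_apply hF hv.2, herm_add_left,
      herm_smul_left, h, h', mul_zero, add_zero]
    rw [add_right_comm]

theorem conj_Tset (g : Cfsg.SU n F 2) {t : Cfsg.SU n F 2} (ht : t ∈ Tset hF) : g * t * g⁻¹ ∈ Tset hF := by
  obtain ⟨v, hv, rfl⟩ := ht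
  refine ⟨suMat g *ᵥ v, ⟨fun e => hv.1 ?_, by rw [su_preserves, hv.2]⟩, (tv_conj hF g hv.2).symm⟩
  rw [← su_inv_mulVec g v, e, Matrix.mulVec_zero]

theorem Tset_conj (hn : 3 ≤ n) {s t : Cfsg.SU n F 2} (hs : s ∈ Tset hF) (ht : t ∈ Tset hF) :
    ∃ g, g * s * g⁻¹ = t := by
  obtain ⟨u, hu, rfl⟩ := hs
  obtain ⟨v, hv, rfl⟩ := ht
  obtain ⟨g, hg⟩ := exists_SU_vec hF hn hu.1 hv.1 hu.2 hv.2
  exact ⟨g, by rw [tv_conj hF g hu.2, hg]⟩

theorem closure_Tset (hn : 4 ≤ n) : Subgroup.closure (Tset hF (n := n)) = ⊤ := by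
  rw [eq_top_iff, ← tvGroup_eq_top hF (n := n) (by omega) (by omega)]
  refine (Subgroup.closure_le _).2 ?_
  rintro g ⟨v, c, hv, hg⟩
  by_cases hv0 : v = 0
  · have hg1 : g = 1 := su_ext fun x => by
      rw [hg, utv_mulVec, hv0, smul_zero, add_zero, suMat_one, Matrix.one_mulVec]
    rw [hg1]; exact one_mem _
  have hc : c + c ^ 2 = 0 := (utv_preserves_iff hF hv0 hv c).1 fun x y => by rw [← hg]; exact su_preserves g x y
  rcases mul_eq_zero.1 (show c * (1 + c) = 0 by linear_combination hc) with rfl | hc1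
  · have hg1 : g = 1 := su_ext fun x => by
      rw [hg, utv_mulVec, zero_mul, zero_smul, add_zero, suMat_one, Matrix.one_mulVec]
    rw [hg1]; exact one_mem _
  · have h1 : c = 1 := (CharTwo.add_eq_zero.1 hc1).symm
    subst h1
    exact Subgroup.subset_closure ⟨v, ⟨hv0, hv⟩, su_ext fun x => by rw [tv_apply hF hv, hg, utv_mulVec, one_mul]⟩

/-! ### The group generated by the transvections of a perp -/

/-- Generated by the transvections commuting with that at `p`. -/
def perpGp (p : V) : Subgroup (Cfsg.SU n F 2) :=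
  Subgroup.closure {x | x ∈ Tset hF ∧ Commute x (tv hF p)}

/-- `g` acts as the unipotent element attached to `p`, `a`, `s`. -/
def IsEich (g : Cfsg.SU n F 2) (p a : V) (s : F) : Prop :=
  ∀ y, suMat g *ᵥ y = y + hh y p • a + (s * hh y p + hh y a) • p

theorem exists_isEich {p a : V} (hp : hh p p = 0) (hap : hh a p = 0) {s : F} (hs : s + s ^ 2 + hh a a = 0) :
    ∃ g, IsEich g p a s :=
  ⟨eich hF p a s hp hap hs, fun y => by rw [suMat_eich, CharTwo.sub_eq_add]⟩

theorem IsEich.unique {g g' : Cfsg.SU n F 2} {p a : V} {s : F} (h : IsEich g p a s) (h' : IsEich g' p a s) :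
    g = g' := su_ext fun y => by rw [h y, h' y]

theorem IsEich.mul {g g' : Cfsg.SU n F 2} {p a b : V} {s r : F} (hp : hh p p = 0) (hap : hh a p = 0)
    (hbp : hh b p = 0) (h : IsEich g p a s) (h' : IsEich g' p b r) :
    IsEich (g * g') p (a + b) (s + r + hh b a) := by
  intro y
  have hpa : hh p a = 0 := (hh_comm hF).1 hap
  rw [suMat_mul, ← Matrix.mulVec_mulVec, h' y, h]
  simp only [herm_add_left, herm_smul_left, hp, hbp, hpa, mul_zero, add_zero, hh_add_right hF]
  refine funext fun i => ?_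
  simp only [Pi.add_apply, Pi.smul_apply, smul_eq_mul]
  ring

theorem IsEich.one {p : V} : IsEich 1 p 0 0 := fun y => by
  rw [suMat_one, Matrix.one_mulVec, hh_zero_right hF, zero_mul, zero_add, zero_smul, smul_zero, add_zero, add_zero]

theorem isEich_tv {p : V} (hp : hh p p = 0) : IsEich (tv hF p) p 0 1 := fun y => by
  rw [tv_apply hF hp, hh_zero_right hF, one_mul, add_zero, smul_zero, add_zero]

theorem IsEich.conj {g : Cfsg.SU n F 2} {p a : V} {s : F} (h : IsEich g p a s) (c : Cfsg.SU n F 2) :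
    IsEich (c * g * c⁻¹) (suMat c *ᵥ p) (suMat c *ᵥ a) s := by
  intro y
  obtain ⟨z, rfl⟩ : ∃ z, suMat c *ᵥ z = y := ⟨suMat c⁻¹ *ᵥ y, by
    rw [Matrix.mulVec_mulVec, ← suMat_mul, mul_inv_cancel, suMat_one, Matrix.one_mulVec]⟩
  rw [suMat_mul, suMat_mul, ← Matrix.mulVec_mulVec, ← Matrix.mulVec_mulVec, su_inv_mulVec, h z, su_preserves,
    su_preserves, Matrix.mulVec_add, Matrix.mulVec_add, Matrix.mulVec_smul, Matrix.mulVec_smul]

theorem tv_mem_perpGp {p x : V} (hp : Pt p) (hx : Pt x) (h : hh x p = 0) : tv hF x ∈ perpGp hF p :=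
  Subgroup.subset_closure ⟨⟨x, hx, rfl⟩, (tv_comm_iff hF hx hp).2 h⟩

/-- The unipotent elements attached to `p` with vector `a` lie in the perp group. -/
def EichIn (p a : V) : Prop :=
  ∀ (s : F) (g : Cfsg.SU n F 2), s + s ^ 2 + hh a a = 0 → IsEich g p a s → g ∈ perpGp hF p

theorem eichIn_add {p a b : V} (hp : Pt p) (hap : hh a p = 0) (hbp : hh b p = 0) (ha : EichIn hF p a)
    (hb : EichIn hF p b) : EichIn hF p (a + b) := by
  intro s g hs hg
  have hvalid : ∀ c : V, ∃ r : F, r + r ^ 2 + hh c c = 0 := fun c => exists_root hF (herm_self_fixed hF c)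
  obtain ⟨r, hr⟩ := hvalid b
  set t := s + r + hh b a with ht
  have e2 : (2 : F) = 0 := CharTwo.two_eq_zero
  have hab : hh a b = hh b a ^ 2 := herm_swap hF b a
  have hs' : t + t ^ 2 + hh a a = 0 := by
    rw [herm_add_left, hh_add_right hF, hh_add_right hF, hab] at hs
    rw [ht]
    linear_combination hs + hr + (s * r + s * hh b a + r * hh b a - hh b b) * e2
  obtain ⟨ga, hga⟩ := exists_isEich hF hp.2 hap hs'
  obtain ⟨gb, hgb⟩ := exists_isEich hF hp.2 hbp hr
  have he : t + r + hh b a = s := by rw [ht]; linear_combination (r + hh b a) * e2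
  have hm := IsEich.mul hF hp.2 hap hbp hga hgb
  rw [he] at hm
  rw [IsEich.unique hF hg hm]
  exact mul_mem (ha t ga hs' hga) (hb r gb hr hgb)

theorem eichIn_iso {p x : V} (hp : Pt p) (hxp : hh x p = 0) (hx : hh x x = 0) : EichIn hF p x := by
  intro s g hs hg
  rw [hx, add_zero] at hs
  have hpx : hh p x = 0 := (hh_comm hF).1 hxp
  have hPp : tv hF p ∈ perpGp hF p := tv_mem_perpGp hF hp hp hp.2
  have hcase : ∀ g₁ : Cfsg.SU n F 2, IsEich g₁ p x 1 → g₁ ∈ perpGp hF p := by
    intro g₁ hg₁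
    by_cases hx0 : x = 0
    · subst hx0; rwa [IsEich.unique hF hg₁ (isEich_tv hF hp.2)]
    have hxp' : hh (x + p) (x + p) = 0 := by
      rw [herm_add_left, hh_add_right hF, hh_add_right hF, hx, hxp, hpx, hp.2]; simp
    by_cases h0 : x + p = 0
    · have e : x = p := by
        refine funext fun i => ?_
        have := congrFun h0 i
        exact CharTwo.add_eq_zero.1 this
      subst e
      have : g₁ = tv hF x := su_ext fun y => by
        rw [hg₁ y, tv_apply hF hx, one_mul, add_assoc, CharTwo.add_self_eq_zero (hh y x), zero_smul, add_zero]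
      rwa [this]
    have e : g₁ = tv hF x * tv hF (x + p) := su_ext fun y => by
      rw [hg₁ y, suMat_mul, ← Matrix.mulVec_mulVec, tv_apply hF hxp', tv_apply hF hx, herm_add_left,
        herm_smul_left, herm_add_left, hx, hpx, add_zero, mul_zero, add_zero, hh_add_right hF, one_mul]
      refine funext fun i => ?_
      simp only [Pi.add_apply, Pi.smul_apply, smul_eq_mul]
      linear_combination (-hh y x * x i) * (CharTwo.two_eq_zero (R := F))
    rw [e]
    exact mul_mem (tv_mem_perpGp hF hp ⟨hx0, hx⟩ hxp) (tv_mem_perpGp hF hp ⟨h0, hxp'⟩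
      (by rw [herm_add_left, hxp, hp.2, add_zero]))
  rcases mul_eq_zero.1 (show s * (1 + s) = 0 by linear_combination hs) with rfl | h1
  · have hm := IsEich.mul hF hp.2 (hh_zero_left hF p) hxp (isEich_tv hF hp.2) hg
    simp only [zero_add, add_zero, hh_zero_right hF] at hm
    have := hcase _ hm
    simpa [← mul_assoc, tv_sq hF hp.2] using mul_mem hPp this
  · rw [(CharTwo.add_eq_zero.1 h1).symm] at hg
    exact hcase g hg

/-- Standard point. -/
def pStd (hn : 4 ≤ n) : V := Pi.single ⟨0, by omega⟩ 1 + Pi.single ⟨1, by omega⟩ 1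

theorem hh_single (i : Fin n) (c : F) (y : V) : hh y (Pi.single i c) = y i * c ^ 2 := by
  rw [Cfsg.hermForm, Finset.sum_eq_single i]
  · simp
  · intro j _ hj; simp [Pi.single_eq_of_ne hj]
  · simp

theorem pt_pStd (hn : 4 ≤ n) : Pt ((pStd hn : V)) := by
  constructor
  · intro e
    have := congrFun e ⟨0, by omega⟩
    simp [pStd] at this
  · rw [pStd, hh_add_right hF, hh_single hF, hh_single hF]
    simp [CharTwo.add_self_eq_zero]

theorem eichIn_std (hn : 4 ≤ n) {a : V} (ha : hh a ((pStd hn : V)) = 0) : EichIn hF ((pStd hn : V)) a := by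
  classical
  set p := (pStd hn : V) with hpdef
  have hp : Pt p := pt_pStd hF hn
  obtain ⟨ω, hω0, hω1, hω⟩ := exists_omega hF
  set i0 : Fin n := ⟨0, by omega⟩
  set i1 : Fin n := ⟨1, by omega⟩
  have hperp : ∀ (j : Fin n) (c : F), 2 ≤ (j : ℕ) → hh (Pi.single j c) p = 0 := by
    intro j c hj
    rw [hpdef, pStd, hh_add_right hF, hh_single hF, hh_single hF,
      Pi.single_eq_of_ne (by intro e; rw [← e] at hj; simp at hj),
      Pi.single_eq_of_ne (by intro e; rw [← e] at hj; simp at hj)]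
    simp
  have hpair : ∀ i j : Fin n, i ≠ j → 2 ≤ (i : ℕ) → 2 ≤ (j : ℕ) → ∀ c d : F, c ^ 3 = d ^ 3 →
      EichIn hF p (Pi.single i c + Pi.single j d) := by
    intro i j hij hi hj c d hcd
    refine eichIn_iso hF hp (by rw [herm_add_left, hperp i c hi, hperp j d hj, add_zero]) ?_
    rw [hh_add_right hF, hh_single hF, hh_single hF]
    simp [hij, hij.symm]
    linear_combination hcd + (d ^ 3) * (CharTwo.two_eq_zero (R := F))
  have hsingle : ∀ (j : Fin n), 2 ≤ (j : ℕ) → ∀ c : F, EichIn hF p (Pi.single j c) := by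
    intro j hj c
    obtain ⟨i, hij, hi⟩ : ∃ i : Fin n, i ≠ j ∧ 2 ≤ (i : ℕ) := by
      by_cases hj2 : (j : ℕ) = 2
      · exact ⟨⟨3, by omega⟩, by intro e; rw [← e] at hj2; simp at hj2, by simp⟩
      · exact ⟨⟨2, by omega⟩, by intro e; rw [← e] at hj2; simp at hj2, by simp⟩
    by_cases hc : c = 0
    · subst hc
      rw [Pi.single_zero]
      exact eichIn_iso hF hp (hh_zero_left hF p) (hh_zero_left hF 0)
    have h1ω : ω ^ 2 ≠ 0 := pow_ne_zero _ hω0
    set d : F := c / ω ^ 2
    have hd : d ≠ 0 := div_ne_zero hc h1ω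
    have e : Pi.single j c = (Pi.single i d + Pi.single j d) + (Pi.single i d + Pi.single j (ω * d) : V) := by
      refine funext fun k => ?_
      simp only [Pi.add_apply, Pi.single_apply]
      by_cases hk : k = j
      · simp [hk, hij, hij.symm]
        rw [show d + ω * d = ω ^ 2 * d by rw [hω]; ring, mul_div_cancel₀ _ h1ω]
      · by_cases hk' : k = i <;> simp [hk, hk', hij, hij.symm, CharTwo.add_self_eq_zero]
    rw [e]
    refine eichIn_add hF hp ?_ ?_ (hpair i j hij hi hj d d rfl) (hpair i j hij hi hj d (ω * d) ?_)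
    · rw [herm_add_left, hperp i d hi, hperp j d hj, add_zero]
    · rw [herm_add_left, hperp i d hi, hperp j _ hj, add_zero]
    · rw [mul_pow, pow_three hF hω0, one_mul]
  set m := fun k : Fin n => if 2 ≤ (k : ℕ) then a k else 0
  have hsum : ∀ s : Finset (Fin n), hh (∑ k ∈ s, Pi.single k (m k) : V) p = 0 ∧
      EichIn hF p (∑ k ∈ s, Pi.single k (m k)) := by
    intro s
    induction s using Finset.induction with
    | empty => exact ⟨by simp [hh_zero_left hF], by simpa using eichIn_iso hF hp (hh_zero_left hF p) (hh_zero_left hF 0)⟩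
    | insert k s hk ih =>
      rw [Finset.sum_insert hk]
      have h1 : hh (Pi.single k (m k)) p = 0 ∧ EichIn hF p (Pi.single k (m k)) := by
        by_cases hk2 : 2 ≤ (k : ℕ)
        · exact ⟨hperp k _ hk2, hsingle k hk2 _⟩
        · have : m k = 0 := if_neg hk2
          rw [this, Pi.single_zero]
          exact ⟨hh_zero_left hF p, eichIn_iso hF hp (hh_zero_left hF p) (hh_zero_left hF 0)⟩
      exact ⟨by rw [herm_add_left, h1.1, ih.1, add_zero], eichIn_add hF hp h1.1 ih.1 h1.2 ih.2⟩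
  have ha01 : a i1 = a i0 := by
    rw [hpdef, pStd, hh_add_right hF, hh_single hF, hh_single hF] at ha
    simp only [one_pow, mul_one] at ha
    exact (CharTwo.add_eq_zero.1 ha).symm
  have e : a = a i0 • p + ∑ k, Pi.single k (m k) := by
    refine funext fun k => ?_
    rw [Pi.add_apply, Finset.sum_apply, Finset.sum_eq_single k (fun b _ hb => by simp [hb.symm]) (by simp)]
    simp only [hpdef, pStd, Pi.smul_apply, Pi.add_apply, Pi.single_eq_same, smul_eq_mul, m]
    rcases Nat.lt_or_ge (k : ℕ) 2 with h | h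
    · have : k = i0 ∨ k = i1 := by
        rcases Nat.lt_or_ge (k : ℕ) 1 with h' | h'
        · exact Or.inl (Fin.ext (by simp [i0]; omega))
        · exact Or.inr (Fin.ext (by simp [i1]; omega))
      rcases this with rfl | rfl
      · simp [i0]
      · simp [i1, ← ha01]
    · rw [if_pos h, Pi.single_eq_of_ne (by intro e; rw [e] at h; simp at h),
        Pi.single_eq_of_ne (by intro e; rw [e] at h; simp at h)]
      simp
  rw [e]
  have hap : hh (a i0 • p) p = 0 := by rw [herm_smul_left, hp.2, mul_zero]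
  refine eichIn_add hF hp hap (hsum Finset.univ).1 (eichIn_iso hF hp hap ?_) (hsum Finset.univ).2
  rw [herm_smul_left, hh_smul_right hF, hp.2, mul_zero, mul_zero]

/-- Two non-commuting transvections: their perps generate. -/
theorem perps_generate (hn : 4 ≤ n) {s t : Cfsg.SU n F 2} (hs : s ∈ Tset hF) (ht : t ∈ Tset hF)
    (hst : ¬ Commute s t) (H : Subgroup (Cfsg.SU n F 2))
    (h : ∀ x ∈ Tset hF, Commute x s ∨ Commute x t → x ∈ H) : H = ⊤ := by
  obtain ⟨c, hc⟩ := Tset_conj hF (by omega) hs ⟨_, pt_pStd hF hn, rfl⟩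
  suffices hk : H.map (MulAut.conj c).toMonoidHom = ⊤ by
    refine eq_top_iff.2 fun x _ => ?_
    obtain ⟨y, hy, e⟩ := (hk.ge (Subgroup.mem_top (c * x * c⁻¹)) : _)
    rwa [← show y = x from mul_left_cancel (mul_right_cancel e)]
  set p := (pStd hn : V)
  set H' := H.map (MulAut.conj c).toMonoidHom
  obtain ⟨w, hw, hwt⟩ : c * t * c⁻¹ ∈ Tset hF := conj_Tset hF c ht
  have hwp : hh w p ≠ 0 := fun e => hst <| by
    have := (tv_comm_iff hF hw (pt_pStd hF hn)).2 e
    rw [hwt, ← hc] at this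
    have h2 := this.map (MulAut.conj c⁻¹).toMonoidHom
    simp [mul_assoc] at h2
    exact h2.symm
  have hH : ∀ x ∈ Tset hF, Commute x (tv hF p) ∨ Commute x (tv hF w) → x ∈ H' := by
    intro x hx hx'
    refine ⟨c⁻¹ * x * c, h _ (by simpa using conj_Tset hF c⁻¹ hx) ?_, by simp [mul_assoc]⟩
    have key : ∀ z, Commute x (c * z * c⁻¹) → Commute (c⁻¹ * x * c) z := fun z hz => by
      have := hz.map (MulAut.conj c⁻¹).toMonoidHom
      simpa [mul_assoc] using this
    exact hx'.imp (fun e => key s (hc ▸ e)) fun e => key t (hwt ▸ e)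
  have hperp : perpGp hF p ≤ H' := (Subgroup.closure_le _).2 fun x hx => hH x hx.1 (Or.inl hx.2)
  have hwH : tv hF w ∈ H' := hH _ ⟨w, hw, rfl⟩ (Or.inr (Commute.refl _))
  refine eq_top_iff.2 ((closure_Tset hF hn).ge.trans ((Subgroup.closure_le _).2 ?_))
  rintro _ ⟨r, hr, rfl⟩
  by_cases hrp : hh r p = 0
  · exact hH _ ⟨r, hr, rfl⟩ (Or.inl ((tv_comm_iff hF hr (pt_pStd hF hn)).2 hrp))
  set r₁ := (hh r p)⁻¹ • r with hr₁
  set w₁ := (hh w p)⁻¹ • w with hw₁
  have hr1 : Pt r₁ := Pt.smul hF hr (inv_ne_zero hrp)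
  have hw1 : Pt w₁ := Pt.smul hF hw (inv_ne_zero hwp)
  have e1 : hh r₁ p = 1 := by rw [hr₁, herm_smul_left, inv_mul_cancel₀ hrp]
  have e2 : hh w₁ p = 1 := by rw [hw₁, herm_smul_left, inv_mul_cancel₀ hwp]
  set a := r₁ + w₁ with hadef
  have hap : hh a p = 0 := by rw [hadef, herm_add_left, e1, e2, CharTwo.add_self_eq_zero]
  have hs' : hh w₁ a + hh w₁ a ^ 2 + hh a a = 0 := by
    have e2' : (2 : F) = 0 := CharTwo.two_eq_zero
    rw [hadef, hh_add_right hF, herm_add_left, hh_add_right hF, hh_add_right hF, hr1.2, hw1.2,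
      herm_swap hF w₁ r₁]
    linear_combination (hh w₁ r₁ + hh w₁ r₁ ^ 2) * e2'
  obtain ⟨g, hg⟩ := exists_isEich hF (pt_pStd hF hn).2 hap hs'
  have hgw : suMat g *ᵥ w₁ = r₁ := by
    rw [hg w₁, e2, one_smul, mul_one, CharTwo.add_self_eq_zero, zero_smul, add_zero, hadef]
    refine funext fun i => ?_
    simp only [Pi.add_apply]
    linear_combination (w₁ i) * (CharTwo.two_eq_zero (R := F))
  have hgH : g ∈ H' := hperp (eichIn_std hF hn hap _ g hs' hg)
  have := mul_mem (mul_mem hgH hwH) (inv_mem hgH)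
  rwa [← tv_smul hF hw.2 (inv_ne_zero hwp), tv_conj hF g hw1.2, hgw, hr₁, tv_smul hF hr.2 (inv_ne_zero hrp)] at this

/-- Five transvections in one perp whose product is trivial. -/
theorem five_relation (hn : 4 ≤ n) : ∃ l : List (Cfsg.SU n F 2),
    (∀ x ∈ l, x ∈ Tset hF ∧ Commute x (tv hF ((pStd hn : V)))) ∧ Odd l.length ∧ l.prod = 1 := by
  set p := (pStd hn : V) with hp_def
  have hp : Pt p := pt_pStd hF hn
  obtain ⟨ω, hω0, hω1, hω⟩ := exists_omega hF
  set j2 : Fin n := ⟨2, by omega⟩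
  set j3 : Fin n := ⟨3, by omega⟩
  set x : V := Pi.single j2 1 + Pi.single j3 1
  have hxx : hh x x = 0 := by
    simp only [x]; rw [hh_add_right hF, hh_single hF, hh_single hF]
    simp [j2, j3, CharTwo.add_self_eq_zero]
  have hxp : hh x p = 0 := by
    simp only [x, hp_def, pStd]; rw [hh_add_right hF, hh_single hF, hh_single hF]
    simp [j2, j3]
  have hpx := (hh_comm hF).1 hxp
  have hiso : ∀ μ : F, hh (x + μ • p) (x + μ • p) = 0 := fun μ => by
    simp only [hh_add_right hF, herm_add_left, herm_smul_left, hh_smul_right hF, hxx, hxp, hpx, hp.2]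
    simp
  have hne : ∀ μ : F, x + μ • p ≠ 0 := fun μ e => by
    have := congrFun e j2
    simp [x, hp_def, pStd, j2, j3] at this
  refine ⟨[tv hF (x + (0 : F) • p), tv hF (x + (1 : F) • p), tv hF (x + ω • p), tv hF (x + ω ^ 2 • p), tv hF p],
    ?_, ⟨2, rfl⟩, ?_⟩
  · intro y hy
    simp only [List.mem_cons, List.not_mem_nil, or_false] at hy
    have key : ∀ μ : F, tv hF (x + μ • p) ∈ Tset hF ∧ Commute (tv hF (x + μ • p)) (tv hF p) := fun μ =>
      ⟨⟨_, ⟨hne μ, hiso μ⟩, rfl⟩, (tv_comm_iff hF ⟨hne μ, hiso μ⟩ hp).2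
        (by rw [herm_add_left, herm_smul_left, hxp, hp.2, mul_zero, add_zero])⟩
    rcases hy with rfl | rfl | rfl | rfl | rfl
    exacts [key 0, key 1, key ω, key (ω ^ 2), ⟨⟨p, hp, rfl⟩, Commute.refl _⟩]
  · refine su_ext fun y => ?_
    simp only [List.prod_cons, List.prod_nil, mul_one, suMat_mul, suMat_one, Matrix.one_mulVec,
      ← Matrix.mulVec_mulVec, tv_apply hF hp.2, tv_apply hF (hiso _), herm_add_left, herm_smul_left,
      hh_add_right hF, hh_smul_right hF, hxx, hxp, hpx, hp.2]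
    have e2 : (2 : F) = 0 := CharTwo.two_eq_zero
    have h3 := pow_three hF hω0
    refine funext fun i => ?_
    simp only [Pi.add_apply, Pi.smul_apply, smul_eq_mul, mul_zero, add_zero, zero_add]
    linear_combination (hh y x * p i + hh y p * x i) * hω +
      (hh y p * p i * (ω ^ 3 + 1) + hh y x * p i * ω) * h3 +
      (-ω * p i * hh y x + hh y p * p i + ω * hh y p * x i) * h3 +
      (p i * hh y x * (1 + ω) + 2 * hh y x * x i + 2 * hh y p * p i + (ω + 1) * hh y p * x i) * e2

end CfsgLib.TwoRad
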